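import Groth.Agent.Brauer.TPow

/-!
# Splitting fields and the index
-/

set_option autoImplicit false

universe u v w z

open scoped TensorProduct

namespace Groth.Agent.Brauer

variable {k : Type u} [Field k]

theorem splits_tensor (K : Type z) [Field K] [Algebra k K] (A : Type v) [Ring A] [Algebra k A]
    (B : Type w) [Ring B] [Algebra k B] (hA : Curves.Splits k A K) (hB : Curves.Splits k B K) :
    Curves.Splits k (A ⊗[k] B) K := by
  obtain ⟨n, hn, ⟨e⟩⟩ := hA
  obtain ⟨m, hm, ⟨f⟩⟩ := hB
  refine ⟨n * m, mul_ne_zero hn hm, ⟨?_⟩⟩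
  let c : (K ⊗[k] A) ⊗[K] (K ⊗[k] B) ≃ₐ[K] (K ⊗[k] A) ⊗[k] B :=
    AlgEquiv.symm <| AlgEquiv.ofLinearEquiv
      (TensorProduct.AlgebraTensorModule.cancelBaseChange k K K (K ⊗[k] A) B).symm
      (by simp [Algebra.TensorProduct.one_def]) <|
        LinearMap.map_mul_of_map_mul_tmul (fun _ _ _ _ ↦ by simp)
  exact (Algebra.TensorProduct.assoc k k K K A B).symm.trans <|
    c.symm.trans <| (Algebra.TensorProduct.congr e f).trans (matTensor n m)

theorem splits_congr (K : Type z) [Field K] [Algebra k K] {A : Type v} [Ring A] [Algebra k A]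
    {B : Type w} [Ring B] [Algebra k B] (e : A ≃ₐ[k] B) (hA : Curves.Splits k A K) :
    Curves.Splits k B K := by
  obtain ⟨n, hn, ⟨f⟩⟩ := hA
  exact ⟨n, hn, ⟨(Algebra.TensorProduct.congr (AlgEquiv.refl (R := K) (A₁ := K)) e.symm).trans f⟩⟩

theorem splits_tpow (K : Type z) [Field K] [Algebra k K] (A : Type v) [Ring A] [Algebra k A]
    (hA : Curves.Splits k A K) (r : ℕ) : Curves.Splits k (CSAGal.tpow k A r) K := by
  induction r with
  | zero =>
    refine splits_congr K (tpowZero A).symm ⟨1, one_ne_zero, ⟨?_⟩⟩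
    exact (Algebra.TensorProduct.rid k K K).trans (AlgEquiv.ofBijective (Algebra.ofId K _)
      (bijective_algebraMap_of_linearEquiv (LinearEquiv.ofFinrankEq K _ (by
        rw [Module.finrank_self, Module.finrank_matrix, Fintype.card_fin, Module.finrank_self]))))
  | succ r ih => exact splits_congr K (tpowSucc A r) (splits_tensor K _ A ih hA)

/-- the index divides the degree of a splitting field -/
theorem index_dvd_of_splits (A : Type v) [Ring A] [Algebra k A] [Algebra.IsCentral k A]
    [IsSimpleRing A] [FiniteDimensional k A] (K : Type z) [Field K] [Algebra k K]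
    [FiniteDimensional k K] (h : Curves.Splits k A K) {d : ℕ} (hd : CSAGal.IsIndex k A d) :
    d ∣ Module.finrank k K := by
  obtain ⟨n, hn, ⟨e⟩⟩ := h
  have hdim : Module.finrank k A = n ^ 2 := by
    rw [← Module.finrank_baseChange (R := K) (S := k) (M' := A), e.toLinearEquiv.finrank_eq,
      Module.finrank_matrix, Fintype.card_fin, Module.finrank_self, mul_one, sq]
  let ρ : A →ₐ[k] Module.End k (Fin n → K) :=
    (colRep (k := k) K n).comp ((e.toAlgHom.restrictScalars k).comp Algebra.TensorProduct.includeRight)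
  have h1 := index_mul_dvd A hd hdim ρ
  rw [finrank_col] at h1
  exact Nat.dvd_of_mul_dvd_mul_left (Nat.pos_of_ne_zero hn) h1

/-- a maximal subfield splits -/
theorem exists_splitting_op (D : Type v) [DivisionRing D] [Algebra k D]
    [Algebra.IsCentral k D] [FiniteDimensional k D] {d : ℕ} (hd : Module.finrank k D = d ^ 2) :
    ∃ (K : Type v) (_ : Field K) (_ : Algebra k K) (_ : FiniteDimensional k K),
      Module.finrank k K = d ∧ Curves.Splits k Dᵐᵒᵖ K := by
  classical
  let P : ℕ → Prop := fun n => ∃ K : Subalgebra k D, (∀ x ∈ K, ∀ y ∈ K, x * y = y * x) ∧ Module.finrank k K = n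
  have hP : P (Module.finrank k (⊥ : Subalgebra k D)) := ⟨⊥, fun x hx y hy => by
    obtain ⟨a, rfl⟩ := Algebra.mem_bot.1 hx
    exact Algebra.commutes a y, rfl⟩
  have hbd : ∀ n, P n → n ≤ Module.finrank k D := fun n ⟨K, _, hK⟩ =>
    hK ▸ Submodule.finrank_le (Subalgebra.toSubmodule K)
  obtain ⟨K, hKc, hKn⟩ : P (Nat.findGreatest P (Module.finrank k D)) :=
    Nat.findGreatest_spec (hbd _ hP) hP
  have hmax : ∀ x : D, (∀ y ∈ K, x * y = y * x) → x ∈ K := by
    intro x hx
    let K' := Algebra.adjoin k (insert x (K : Set D))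
    have hc : ∀ a ∈ K', ∀ b ∈ K', a * b = b * a := fun a ha b hb =>
      congrArg Subtype.val (((Algebra.adjoinCommRingOfComm k (s := insert x (K : Set D)) (by
        rintro p (rfl | hp) q (rfl | hq)
        · rfl
        · exact hx q hq
        · exact (hx p hp).symm
        · exact hKc p hp q hq)).mul_comm ⟨a, ha⟩ ⟨b, hb⟩))
    have hle : Module.finrank k K' ≤ Module.finrank k K := by
      rw [hKn]
      exact Nat.le_findGreatest (hbd _ ⟨K', hc, rfl⟩) ⟨K', hc, rfl⟩
    have hKK' : Subalgebra.toSubmodule K ≤ Subalgebra.toSubmodule K' := fun y hy =>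
      Algebra.subset_adjoin (Set.mem_insert_of_mem x hy)
    show x ∈ Subalgebra.toSubmodule K
    rw [Submodule.eq_of_le_of_finrank_le hKK' hle]
    exact Algebra.subset_adjoin (Set.mem_insert x _)
  letI : CommRing K := { (inferInstance : Ring K) with mul_comm := fun a b => Subtype.ext (hKc a a.2 b b.2) }
  letI : Field K := (Algebra.IsIntegral.isField_iff_isField (R := k) (S := K)
    (FaithfulSMul.algebraMap_injective k K)).mp (Field.toIsField k) |>.toField
  refine ⟨K, inferInstance, inferInstance, inferInstance, ?_⟩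
  -- `D` as a vector space over `K` acting on the left
  have : Module.Finite K D := Module.Finite.of_restrictScalars_finite k K D
  let φ₀ : Dᵐᵒᵖ →ₐ[k] Module.End K D :=
    { toFun := fun a => { toFun := fun x => x * a.unop
                          map_add' := fun x y => add_mul x y _
                          map_smul' := fun c x => mul_assoc (c : D) x a.unop }
      map_one' := LinearMap.ext mul_one
      map_mul' := fun a b => LinearMap.ext fun x => (mul_assoc x b.unop a.unop).symm
      map_zero' := LinearMap.ext mul_zero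
      map_add' := fun a b => LinearMap.ext fun x => mul_add x a.unop b.unop
      commutes' := fun r => LinearMap.ext fun x => by
        show x * algebraMap k D r = r • x
        rw [Algebra.smul_def, Algebra.commutes] }
  let ρ : K ⊗[k] Dᵐᵒᵖ →ₐ[K] Module.End K D :=
    Algebra.TensorProduct.lift (Algebra.ofId K _) φ₀ fun l x => Algebra.commutes l _
  have hρ : ∀ (c : K) (a : Dᵐᵒᵖ) (x : D), ρ (c ⊗ₜ a) x = (c : D) * (x * a.unop) := fun c a x => by
    rw [Algebra.TensorProduct.lift_tmul]
    rfl
  have : IsSimpleRing (K ⊗[k] Dᵐᵒᵖ) := by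
    have : IsSimpleRing (Dᵐᵒᵖ ⊗[k] K) := Azumaya.isSimpleRing_tensor k Dᵐᵒᵖ K
    exact IsSimpleRing.of_ringEquiv (Algebra.TensorProduct.comm k Dᵐᵒᵖ K).toRingEquiv this
  have hinj : Function.Injective ρ := RingHom.injective ρ.toRingHom
  letI : Module (K ⊗[k] Dᵐᵒᵖ) D := Module.compHom D ρ.toRingHom
  have : IsArtinianRing (K ⊗[k] Dᵐᵒᵖ) := IsArtinianRing.of_finite k _
  have hsurj : Function.Surjective ρ := by
    intro f
    have hE : ∀ g : Module.End (K ⊗[k] Dᵐᵒᵖ) D, ∃ c : K, ∀ x, g x = c • x := by
      intro g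
      have hg : ∀ (c : K) (a : D) (x : D), g ((c : D) * (x * a)) = (c : D) * (g x * a) := fun c a x => by
        have := g.map_smul (c ⊗ₜ[k] MulOpposite.op a) x
        show g _ = _
        rw [show (c : D) * (x * a) = ρ (c ⊗ₜ[k] MulOpposite.op a) x from (hρ c _ x).symm,
          show (c : D) * (g x * a) = ρ (c ⊗ₜ[k] MulOpposite.op a) (g x) from (hρ c _ (g x)).symm]
        exact this
      have hgl : ∀ x, g x = g 1 * x := fun x => by simpa using hg 1 x 1
      refine ⟨⟨g 1, hmax _ fun y hy => ?_⟩, hgl⟩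
      have := hg ⟨y, hy⟩ 1 1
      simp only [mul_one] at this
      rw [← this, ← hgl]
    let F : Module.End (Module.End (K ⊗[k] Dᵐᵒᵖ) D) D :=
      { toFun := f
        map_add' := f.map_add
        map_smul' := fun g x => by
          obtain ⟨c, hc⟩ := hE g
          show f (g x) = g (f x)
          rw [hc, hc, map_smul] }
    have : Module.Finite (Module.End (K ⊗[k] Dᵐᵒᵖ) D) D := by
      refine ⟨(Finset.univ.image (Module.finBasis K D)), ?_⟩
      rw [eq_top_iff]
      intro x _
      rw [← (Module.finBasis K D).sum_repr x]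
      refine sum_mem fun i _ => ?_
      let g : Module.End (K ⊗[k] Dᵐᵒᵖ) D :=
        { toFun := fun z => ((Module.finBasis K D).repr x i) • z
          map_add' := smul_add _
          map_smul' := fun t z => by
            show _ • ρ t z = ρ t (_ • z)
            rw [map_smul] }
      exact Submodule.smul_mem _ g (Submodule.subset_span (by simp))
    obtain ⟨t, ht⟩ := Module.Finite.toModuleEnd_moduleEnd_surjective (R := K ⊗[k] Dᵐᵒᵖ) (M := D) F
    exact ⟨t, LinearMap.ext fun x => congr($ht x)⟩
  have hbij : Function.Bijective ρ := ⟨hinj, hsurj⟩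
  have hD : Module.finrank K D ^ 2 = d ^ 2 := by
    rw [← hd, show Module.finrank k D = Module.finrank k Dᵐᵒᵖ from (MulOpposite.opLinearEquiv k).finrank_eq,
      ← Module.finrank_baseChange (R := K) (S := k) (M' := Dᵐᵒᵖ),
      (AlgEquiv.ofBijective ρ hbij).toLinearEquiv.finrank_eq, Module.finrank_linearMap, sq]
  have hrank : Module.finrank K D = d := Nat.pow_left_injective two_ne_zero hD
  have hd0 : d ≠ 0 := fun h => by
    have : 0 < Module.finrank k D := Module.finrank_pos
    simp [hd, h] at this
  refine ⟨?_, d, hd0, ⟨?_⟩⟩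
  · have := Module.finrank_mul_finrank k K D
    rw [hrank, hd, sq] at this
    exact Nat.eq_of_mul_eq_mul_right (Nat.pos_of_ne_zero hd0) this
  · exact (AlgEquiv.ofBijective ρ hbij).trans (algEquivMatrix (hrank ▸ Module.finBasis K D))

/-- a maximal subfield splits -/
theorem exists_splitting_of_division (D : Type v) [DivisionRing D] [Algebra k D]
    [Algebra.IsCentral k D] [FiniteDimensional k D] {d : ℕ} (hd : Module.finrank k D = d ^ 2) :
    ∃ (K : Type v) (_ : Field K) (_ : Algebra k K) (_ : FiniteDimensional k K),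
      Module.finrank k K = d ∧ Curves.Splits k D K := by
  obtain ⟨K, _, _, _, hK, hs⟩ := exists_splitting_op (k := k) Dᵐᵒᵖ (d := d)
    (by rw [← hd]; exact (MulOpposite.opLinearEquiv k).finrank_eq.symm)
  exact ⟨K, inferInstance, inferInstance, inferInstance, hK, splits_congr K (AlgEquiv.opOp k D).symm hs⟩

/-- the index of a tensor power divides the index -/
theorem index_tpow_dvd (A : Type v) [Ring A] [Algebra k A] [Algebra.IsCentral k A]
    [IsSimpleRing A] [FiniteDimensional k A] (r : ℕ) {d d' : ℕ} (hd : CSAGal.IsIndex k A d)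
    (hd' : CSAGal.IsIndex k (CSAGal.tpow k A r) d') : d' ∣ d := by
  obtain ⟨hpos, m, D, _, _, hm, hdim, ⟨e⟩⟩ := hd
  have := finite_of_matrix hm.ne' e
  have := isCentral_of_matrix hm.ne' e
  obtain ⟨K, _, _, _, hK, hsp⟩ := exists_splitting_of_division D hdim
  obtain ⟨d'', hd''⟩ := exists_isIndex_eqv (k := k) (CSAGal.tpow k D r)
  have he : Eqv k (CSAGal.tpow k A r) (CSAGal.tpow k D r) :=
    eqv_tpow_congr A ((Eqv.of_algEquiv e).trans (eqv_matrix m hm.ne')) r
  rw [isIndex_unique (CSAGal.tpow k A r) hd' hd'' he, ← hK]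
  exact index_dvd_of_splits _ K (splits_tpow K D hsp r) hd''

end Groth.Agent.Brauer
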