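import Groth.Agent.Brauer.Index

/-! The antisymmetrizer in a tensor power of a central simple algebra. -/

set_option autoImplicit false

universe u v w

open scoped TensorProduct
open Matrix

namespace Groth.Agent.Brauer

open Groth.Agent.Azumaya

section Kron

variable (L : Type u) [CommRing L] {n r : ℕ}

/-- Kronecker power. -/
def kron (X : Fin r → Matrix (Fin n) (Fin n) L) : Matrix (Fin r → Fin n) (Fin r → Fin n) L :=
  Matrix.of fun f f' => ∏ i, X i (f i) (f' i)

theorem kron_mul (X Y : Fin r → Matrix (Fin n) (Fin n) L) : kron L (X * Y) = kron L X * kron L Y := by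
  ext f f'
  simp only [kron, Matrix.of_apply, Pi.mul_apply, Matrix.mul_apply, ← Finset.prod_mul_distrib]
  rw [Finset.prod_univ_sum]
  simp [Fintype.piFinset_univ]

theorem kron_one : kron L (1 : Fin r → Matrix (Fin n) (Fin n) L) = 1 := by
  ext f f'
  simp only [kron, Matrix.of_apply, Pi.one_apply, Matrix.one_apply]
  by_cases h : f = f'
  · simp [h]
  · rw [if_neg h]
    obtain ⟨i, hi⟩ := Function.ne_iff.1 h
    exact Finset.prod_eq_zero (Finset.mem_univ i) (if_neg hi)

/-- The antisymmetrizer. -/
def asym (n r : ℕ) : Matrix (Fin r → Fin n) (Fin r → Fin n) L :=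
  Matrix.of fun f f' => ∑ π : Equiv.Perm (Fin r), if f' = f ∘ π then ((Equiv.Perm.sign π : ℤ) : L) else 0

theorem asym_comm (g : Matrix (Fin n) (Fin n) L) :
    kron L (fun _ : Fin r => g) * asym L n r = asym L n r * kron L (fun _ : Fin r => g) := by
  classical
  ext f f''
  have hinv : ∀ (π : Equiv.Perm (Fin r)) (a b : Fin r → Fin n),
      kron L (fun _ : Fin r => g) (a ∘ π) (b ∘ π) = kron L (fun _ : Fin r => g) a b := fun π a b => by
    simp only [kron, Matrix.of_apply, Function.comp]
    exact Equiv.prod_comp π fun i => g (a i) (b i)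
  rw [Matrix.mul_apply, Matrix.mul_apply]
  simp only [asym, Matrix.of_apply, Finset.mul_sum, Finset.sum_mul]
  rw [Finset.sum_comm]
  conv_rhs => rw [Finset.sum_comm]
  refine Finset.sum_congr rfl fun π _ => ?_
  rw [Finset.sum_eq_single (f'' ∘ π.symm), Finset.sum_eq_single (f ∘ π)]
  · rw [if_pos rfl, if_pos (by funext i; simp), mul_comm, ← hinv π f (f'' ∘ π.symm)]
    congr 2
    funext i; simp
  · intro b _ hb; rw [if_neg hb, zero_mul]
  · simp
  · intro b _ hb
    rw [if_neg fun h => hb (by rw [h]; funext i; simp), mul_zero]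
  · simp

theorem map_asym {L' : Type u} [CommRing L'] (σ : L →+* L') :
    (asym L n r).map σ = asym L' n r := by
  ext f f'
  simp [asym, Matrix.map_apply, map_sum, apply_ite σ]

theorem map_kron {L' : Type u} [CommRing L'] (σ : L →+* L') (X : Fin r → Matrix (Fin n) (Fin n) L) :
    (kron L X).map σ = kron L' fun i => (X i).map σ := by
  ext f f'
  simp [kron, Matrix.map_apply, map_prod]

end Kron

section Rank

variable (L : Type u) [Field L] (n r : ℕ)

theorem vecMul_asym (v : (Fin r → Fin n) → L) (g : Fin r → Fin n) :
    (v ᵥ* asym L n r) g = ∑ π : Equiv.Perm (Fin r), ((Equiv.Perm.sign π : ℤ) : L) * v (g ∘ π.symm) := by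
  classical
  simp only [Matrix.vecMul, dotProduct, asym, Matrix.of_apply, Finset.mul_sum]
  rw [Finset.sum_comm]
  refine Finset.sum_congr rfl fun π _ => ?_
  rw [Finset.sum_eq_single (g ∘ π.symm)]
  · rw [if_pos (by funext i; simp), mul_comm]
  · intro b _ hb
    rw [if_neg fun h => hb (by rw [h]; funext i; simp), mul_zero]
  · simp

theorem finrank_range_asym :
    Module.finrank L (LinearMap.range (asym L n r).vecMulLinear) = n.choose r := by
  classical
  let J := Fin r ↪o Fin n
  haveI : Fintype J := Fintype.ofEquiv _ (Set.powersetCard.ofFinEmbEquiv (I := Fin n) (n := r)).symm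
  have hJ : Fintype.card J = n.choose r := by
    rw [← Nat.card_eq_fintype_card, Nat.card_congr (Set.powersetCard.ofFinEmbEquiv (I := Fin n) (n := r)),
      Set.powersetCard.card, Nat.card_eq_fintype_card, Fintype.card_fin]
  let e : LinearMap.range (asym L n r).vecMulLinear →ₗ[L] (J → L) :=
    { toFun := fun w g => (w : (Fin r → Fin n) → L) g
      map_add' := fun a b => rfl
      map_smul' := fun c a => rfl }
  have hinj : Function.Injective e := by
    rw [injective_iff_map_eq_zero]
    rintro ⟨w, v, hv⟩ hw
    refine Subtype.ext (funext fun g => ?_)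
    have hw' : ∀ s : J, w s = 0 := fun s => congrFun hw s
    subst hv
    show (v ᵥ* asym L n r) g = 0
    by_cases hg : Function.Injective g
    · -- sort `g`
      let s := Tuple.sort g
      have hmono : StrictMono (g ∘ s) :=
        (Tuple.monotone_sort g).strictMono_of_injective (hg.comp s.injective)
      have h0 := hw' (OrderEmbedding.ofStrictMono _ hmono)
      change (v ᵥ* asym L n r) (g ∘ s) = 0 at h0
      rw [vecMul_asym] at h0 ⊢
      rw [← mul_zero (((Equiv.Perm.sign s : ℤ)) : L), ← h0, Finset.mul_sum]
      refine Fintype.sum_equiv (Equiv.mulRight s) _ _ fun π => ?_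
      have h1 : ((Equiv.Perm.sign s : ℤ) : L) * ((Equiv.Perm.sign s : ℤ) : L) = 1 := by
        rw [← Int.cast_mul, ← Units.val_mul, Int.units_mul_self, Units.val_one, Int.cast_one]
      have h2 : g ∘ s ∘ (π * s).symm = g ∘ π.symm := by
        funext i
        simp [Equiv.Perm.mul_def]
      show _ = _ * (((Equiv.Perm.sign (π * s) : ℤ) : L) * v (g ∘ s ∘ (π * s).symm))
      rw [h2, map_mul, Units.val_mul, Int.cast_mul, ← mul_assoc, mul_left_comm, h1, mul_one]
    · rw [vecMul_asym]
      obtain ⟨a, b, hab, hne⟩ := Function.not_injective_iff.1 hg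
      refine Finset.sum_involution (fun π _ => π * Equiv.swap a b) (fun π _ => ?_) (fun π _ _ => ?_)
        (fun π _ => Finset.mem_univ _) fun π _ => by simp [mul_assoc]
      · have h2 : g ∘ (π * Equiv.swap a b).symm = g ∘ π.symm := by
          funext i
          have h3 : (π * Equiv.swap a b).symm i = Equiv.swap a b (π.symm i) := by
            simp [Equiv.Perm.mul_def]
          simp only [Function.comp, h3]
          rcases eq_or_ne (π.symm i) a with h | ha
          · rw [h, Equiv.swap_apply_left, hab]
          rcases eq_or_ne (π.symm i) b with h | hb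
          · rw [h, Equiv.swap_apply_right, hab]
          · rw [Equiv.swap_apply_of_ne_of_ne ha hb]
        rw [h2, map_mul, Equiv.Perm.sign_swap hne]
        simp
      · intro h
        exact hne (Equiv.swap_eq_one_iff.1 (mul_eq_left.1 h))
  have hsurj : Function.Surjective e := fun u => by
    let v : (Fin r → Fin n) → L := fun g => if h : StrictMono g then u (OrderEmbedding.ofStrictMono g h) else 0
    refine ⟨⟨_, v, rfl⟩, funext fun s => ?_⟩
    show (v ᵥ* asym L n r) s = u s
    rw [vecMul_asym, Finset.sum_eq_single 1]
    · simp only [Equiv.Perm.sign_one, Units.val_one, Int.cast_one, one_mul, v]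
      rw [show (⇑s ∘ ⇑(1 : Equiv.Perm (Fin r)).symm) = ⇑s from rfl, dif_pos s.strictMono]
      exact congrArg u (RelEmbedding.ext fun i => rfl)
    · intro π _ hπ
      simp only [v]
      rw [dif_neg, mul_zero]
      intro h
      apply hπ
      have h1 : StrictMono π.symm := fun i j hij => s.strictMono.lt_iff_lt.1 (h hij)
      have h2 : (π.symm : Fin r → Fin r) = id := by
        have := Subsingleton.elim (StrictMono.orderIsoOfSurjective _ h1 π.symm.surjective) (OrderIso.refl _)
        exact funext fun i => DFunLike.congr_fun this i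
      exact Equiv.ext fun i => by
        have := congrFun h2 (π i)
        simpa using this.symm
    · simp
  rw [(LinearEquiv.ofBijective e ⟨hinj, hsurj⟩).finrank_eq, Module.finrank_pi, hJ]

theorem finrank_range_mulRight {ι : Type} [Fintype ι] [DecidableEq ι] (P : Matrix ι ι L) :
    Module.finrank L (LinearMap.range (LinearMap.mulRight L P)) =
      Fintype.card ι * Module.finrank L (LinearMap.range P.vecMulLinear) := by
  classical
  let e : LinearMap.range (LinearMap.mulRight L P) →ₗ[L] (ι → LinearMap.range P.vecMulLinear) :=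
    { toFun := fun X i => ⟨(X : Matrix ι ι L) i, by
        obtain ⟨Y, hY⟩ := X.2
        exact ⟨Y i, by rw [← hY]; rfl⟩⟩
      map_add' := fun a b => rfl
      map_smul' := fun c a => rfl }
  have hbij : Function.Bijective e := by
    refine ⟨fun a b h => Subtype.ext (funext fun i => congrArg Subtype.val (congrFun h i)), fun w => ?_⟩
    choose y hy using fun i => (w i).2
    exact ⟨⟨Matrix.of y * P, ⟨Matrix.of y, rfl⟩⟩, funext fun i => Subtype.ext (hy i)⟩
  rw [(LinearEquiv.ofBijective e hbij).finrank_eq, Module.finrank_pi_fintype, Finset.sum_const,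
    Finset.card_univ, smul_eq_mul]

end Rank

section Descent

variable {k : Type u} [Field k]

theorem finrank_range_baseChange (L : Type u) [Field L] [Algebra k L] {M : Type v} [AddCommGroup M]
    [Module k M] [FiniteDimensional k M] (f : M →ₗ[k] M) :
    Module.finrank L (LinearMap.range (f.baseChange L)) = Module.finrank k (LinearMap.range f) := by
  have h1 := (LinearMap.tensorKerEquiv L L f).finrank_eq
  rw [Module.finrank_baseChange] at h1
  have h2 := LinearMap.finrank_range_add_finrank_ker f
  have h3 := LinearMap.finrank_range_add_finrank_ker (f.baseChange L)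
  rw [Module.finrank_baseChange] at h3
  have h4 : Module.finrank k (LinearMap.ker f) = Module.finrank L (LinearMap.ker (f.baseChange L)) := h1
  omega

variable {A : Type v} [Ring A] [Algebra k A] {n : ℕ} (L : Type w) [Field L] [Algebra k L]
  (φ : (L ⊗[k] A) ≃ₐ[L] Matrix (Fin n) (Fin n) L) (r : ℕ)

/-- The Kronecker power of a splitting. -/
noncomputable def powHom : Brauer.pw k A r →ₐ[k] Matrix (Fin r → Fin n) (Fin r → Fin n) L := by
  classical
  let φ₀ : A →ₗ[k] Matrix (Fin n) (Fin n) L := (φ.toLinearMap.restrictScalars k).comp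
    (Algebra.TensorProduct.includeRight (R := k) (A := L) (B := A)).toLinearMap
  let M : MultilinearMap k (fun _ : Fin r => A) (Matrix (Fin r → Fin n) (Fin r → Fin n) L) :=
    { toFun := fun a => kron L fun i => φ₀ (a i)
      map_update_add' := fun a i x y => by
        ext f f'
        simp only [kron, Matrix.of_apply, Matrix.add_apply]
        rw [← Finset.mul_prod_erase _ _ (Finset.mem_univ i), ← Finset.mul_prod_erase _ _ (Finset.mem_univ i),
          ← Finset.mul_prod_erase _ _ (Finset.mem_univ i)]
        have hne : ∀ z, ∏ j ∈ Finset.univ.erase i, φ₀ (Function.update a i z j) (f j) (f' j) =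
            ∏ j ∈ Finset.univ.erase i, φ₀ (a j) (f j) (f' j) := fun z => Finset.prod_congr rfl fun j hj => by
          rw [Function.update_of_ne (Finset.ne_of_mem_erase hj)]
        simp only [hne, Function.update_self, map_add, Matrix.add_apply, add_mul]
      map_update_smul' := fun a i c x => by
        ext f f'
        simp only [kron, Matrix.of_apply, Matrix.smul_apply]
        rw [← Finset.mul_prod_erase _ _ (Finset.mem_univ i), ← Finset.mul_prod_erase _ _ (Finset.mem_univ i)]
        have hne : ∀ z, ∏ j ∈ Finset.univ.erase i, φ₀ (Function.update a i z j) (f j) (f' j) =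
            ∏ j ∈ Finset.univ.erase i, φ₀ (a j) (f j) (f' j) := fun z => Finset.prod_congr rfl fun j hj => by
          rw [Function.update_of_ne (Finset.ne_of_mem_erase hj)]
        simp only [hne, Function.update_self, map_smul, Matrix.smul_apply, smul_mul_assoc] }
  refine Brauer.algHom (PiTensorProduct.lift M) ?_ ?_
  · rw [PiTensorProduct.lift.tprod]
    show kron L (fun i => φ₀ ((1 : Fin r → A) i)) = 1
    rw [show (fun i => φ₀ ((1 : Fin r → A) i)) = (1 : Fin r → Matrix (Fin n) (Fin n) L) from
      funext fun i => by
        show φ (Algebra.TensorProduct.includeRight (1 : A)) = 1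
        rw [map_one, map_one], kron_one]
  · intro a b
    rw [PiTensorProduct.lift.tprod, PiTensorProduct.lift.tprod, PiTensorProduct.lift.tprod]
    show kron L _ = kron L _ * kron L _
    rw [← kron_mul]
    congr 1
    funext i
    show φ (Algebra.TensorProduct.includeRight (a i * b i)) = _
    rw [map_mul, map_mul]
    rfl

theorem powHom_tprod (a : Fin r → A) :
    powHom L φ r (PiTensorProduct.tprod k a) = kron L fun i => φ ((1 : L) ⊗ₜ[k] a i) :=
  PiTensorProduct.lift.tprod _

/-- Its extension to the base change. -/
noncomputable def powBase : L ⊗[k] Brauer.pw k A r →ₐ[L] Matrix (Fin r → Fin n) (Fin r → Fin n) L :=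
  Algebra.TensorProduct.lift (Algebra.ofId L _) (powHom L φ r) fun x y => Algebra.commutes x _

theorem powBase_tmul (l : L) (x : Brauer.pw k A r) :
    powBase L φ r (l ⊗ₜ[k] x) = l • powHom L φ r x := by
  rw [powBase, Algebra.TensorProduct.lift_tmul, Algebra.smul_def]
  rfl

end Descent

variable {k : Type u} [Field k] {A : Type v} [Ring A] [Algebra k A]

/-- The index of the `r`-th power divides `n.choose r`. -/
theorem indDvd_choose (hA : IsCSA k A) {n : ℕ} (hn : Module.finrank k A = n * n) {r : ℕ} (hr : r ≤ n) :
    IndDvd k (Brauer.pw k A r) (n.choose r) := by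
  classical
  let L := SeparableClosure k
  haveI := hA.finite
  obtain ⟨hc, hs, hf⟩ := hA.baseChange L
  obtain ⟨n', hn', ⟨φ'⟩⟩ := matrix_of_isSepClosed L (L ⊗[k] A)
  obtain rfl : n' = n := by
    have := φ'.toLinearEquiv.finrank_eq
    rw [Module.finrank_baseChange, hn, Module.finrank_matrix, Module.finrank_self, mul_one,
      Fintype.card_fin] at this
    exact (Nat.mul_self_inj.1 this).symm
  have hT : IsCSA k (Brauer.pw k A r) := hA.pw r
  haveI := hT.finite
  obtain ⟨hTc, hTs, hTf⟩ := hT.baseChange L
  let Φ := powBase L φ' r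
  have hΦ : Function.Bijective Φ := by
    have hinj : Function.Injective Φ := RingHom.injective Φ.toRingHom
    have hdim : Module.finrank L (L ⊗[k] Brauer.pw k A r) =
        Module.finrank L (Matrix (Fin r → Fin n') (Fin r → Fin n') L) := by
      rw [Module.finrank_baseChange, finrank_pw, hn, Module.finrank_matrix, Module.finrank_self, mul_one,
        Fintype.card_fun, Fintype.card_fin, Fintype.card_fin, mul_pow]
    exact ⟨hinj, (LinearMap.injective_iff_surjective_of_finrank_eq_finrank hdim (f := Φ.toLinearMap)).1 hinj⟩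
  obtain ⟨x₀, hx₀⟩ := hΦ.2 (asym L n' r)
  -- descend `x₀`
  have hfix : ∀ σ : L ≃ₐ[k] L, Algebra.TensorProduct.map (σ : L →ₐ[k] L) (AlgHom.id k _) x₀ = x₀ := by
    intro σ
    let ψ : L ⊗[k] A →ₐ[L] Matrix (Fin n') (Fin n') L :=
      Algebra.TensorProduct.lift (Algebra.ofId L _)
        ((σ : L →ₐ[k] L).mapMatrix.comp ((φ'.toAlgHom.restrictScalars k).comp
          Algebra.TensorProduct.includeRight)) fun x y => Algebra.commutes x _
    obtain ⟨g, hg⟩ := skolemNoether L (Matrix (Fin n') (Fin n') L) (Matrix (Fin n') (Fin n') L)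
      (AlgHom.id L _) (ψ.comp φ'.symm.toAlgHom)
    have hga : ∀ a : A, (φ' ((1 : L) ⊗ₜ[k] a)).map (σ : L → L) =
        (g : Matrix (Fin n') (Fin n') L) * φ' ((1 : L) ⊗ₜ[k] a) *
          (g⁻¹ : (Matrix (Fin n') (Fin n') L)ˣ) := fun a => by
      have h := hg (φ' ((1 : L) ⊗ₜ[k] a))
      simp only [AlgHom.comp_apply, AlgEquiv.coe_toAlgHom, AlgEquiv.symm_apply_apply, ψ,
        Algebra.TensorProduct.lift_tmul, map_one, one_mul, AlgHom.id_apply] at h
      exact h
    let G := kron L fun _ : Fin r => (g : Matrix (Fin n') (Fin n') L)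
    let G' := kron L fun _ : Fin r => ((g⁻¹ : (Matrix (Fin n') (Fin n') L)ˣ) : Matrix (Fin n') (Fin n') L)
    have hGG : G * G' = 1 ∧ G' * G = 1 := by
      constructor <;> rw [← kron_mul] <;> convert kron_one L (n := n') (r := r) using 2 <;>
        exact funext fun i => by simp
    have hσ : ∀ x, (Φ x).map (σ : L → L) =
        G * Φ (Algebra.TensorProduct.map (σ : L →ₐ[k] L) (AlgHom.id k _) x) * G' := by
      intro x
      induction x using TensorProduct.induction_on with
      | zero => simp
      | tmul l t =>
        rw [Algebra.TensorProduct.map_tmul, AlgHom.id_apply, powBase_tmul, powBase_tmul, mul_smul_comm,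
          smul_mul_assoc]
        rw [show (l • powHom L φ' r t).map (σ : L → L) = σ l • (powHom L φ' r t).map (σ : L → L) from
          Matrix.ext fun a b => by simp [Matrix.map_apply]]
        congr 1
        induction t using PiTensorProduct.induction_on with
        | smul_tprod c a =>
          rw [map_smul, powHom_tprod, mul_smul_comm, smul_mul_assoc,
            show (c • kron L fun i => φ' ((1 : L) ⊗ₜ[k] a i)).map (σ : L → L) =
              c • (kron L fun i => φ' ((1 : L) ⊗ₜ[k] a i)).map (σ : L → L) from
            Matrix.ext fun p q => by simp [Matrix.map_apply]]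
          congr 1
          rw [← kron_mul, ← kron_mul, show (kron L fun i => φ' ((1 : L) ⊗ₜ[k] a i)).map (σ : L → L) =
            kron L fun i => (φ' ((1 : L) ⊗ₜ[k] a i)).map (σ : L → L) from map_kron L (σ : L →+* L) _]
          exact congrArg _ (funext fun i => hga (a i))
        | add s t hs ht =>
          rw [map_add, Matrix.map_add _ (map_add σ), hs, ht, mul_add, add_mul]
      | add x y hx hy =>
        rw [map_add, map_add, map_add, Matrix.map_add _ (map_add σ), hx, hy, mul_add, add_mul]
    apply hΦ.1
    have h := hσ x₀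
    rw [hx₀] at h
    have h' : asym L n' r = G * Φ (Algebra.TensorProduct.map (σ : L →ₐ[k] L) (AlgHom.id k _) x₀) * G' := by
      rw [← h]
      exact (map_asym L (σ : L →+* L)).symm
    calc Φ (Algebra.TensorProduct.map (σ : L →ₐ[k] L) (AlgHom.id k _) x₀)
        = G' * asym L n' r * G := by
          rw [h', ← mul_assoc, ← mul_assoc, hGG.2, one_mul, mul_assoc, hGG.2, mul_one]
      _ = G' * (G * asym L n' r) := by rw [mul_assoc, asym_comm]
      _ = asym L n' r := by rw [← mul_assoc, hGG.2, one_mul]
      _ = Φ x₀ := hx₀.symm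
  let b := Module.finBasis k (Brauer.pw k A r)
  let B := Algebra.TensorProduct.basis L b
  have hcoord : ∀ (σ : L ≃ₐ[k] L) x i,
      B.repr (Algebra.TensorProduct.map (σ : L →ₐ[k] L) (AlgHom.id k _) x) i = σ (B.repr x i) := by
    intro σ x i
    induction x using TensorProduct.induction_on with
    | zero => simp
    | tmul l a => simp [B, Algebra.TensorProduct.basis_repr_tmul]
    | add x y hx hy => simp [map_add, hx, hy]
  choose c hc using fun i => (InfiniteGalois.mem_range_algebraMap_iff_fixed (k := k) (B.repr x₀ i)).2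
    fun σ => by rw [← hcoord, hfix]
  let a := ∑ i, c i • b i
  have ha : x₀ = (1 : L) ⊗ₜ[k] a := by
    conv_lhs => rw [← B.sum_repr x₀]
    rw [TensorProduct.tmul_sum]
    exact Finset.sum_congr rfl fun i _ => by
      rw [← hc, Algebra.TensorProduct.basis_apply, algebraMap_smul, TensorProduct.tmul_smul]
  -- the left ideal generated by `a`
  let W : Submodule k (Brauer.pw k A r) := LinearMap.range (LinearMap.mulRight k a)
  have hWmul : ∀ (t : Brauer.pw k A r), ∀ w ∈ W, LinearMap.mulLeft k t w ∈ W := fun t w ⟨y, hy⟩ =>
    ⟨t * y, by rw [← hy]; simp [mul_assoc]⟩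
  let f : Brauer.pw k A r →ₐ[k] Module.End k W :=
    { toFun := fun t => (LinearMap.mulLeft k t).restrict (hWmul t)
      map_one' := by ext w; simp
      map_mul' := fun x y => by ext w; simp [mul_assoc]
      map_zero' := by ext w; simp
      map_add' := fun x y => by ext w; simp [add_mul]
      commutes' := fun c => by ext w; simp [Algebra.smul_def] }
  have hdim : Module.finrank k W = n' ^ r * n'.choose r := by
    rw [← finrank_range_baseChange L]
    have hcard : Fintype.card (Fin r → Fin n') = n' ^ r := by
      rw [Fintype.card_fun, Fintype.card_fin, Fintype.card_fin]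
    rw [← hcard, ← finrank_range_asym L n' r, ← finrank_range_mulRight]
    let e := (AlgEquiv.ofBijective Φ hΦ).toLinearEquiv
    have hcomm : ∀ x, e ((LinearMap.mulRight k a).baseChange L x) = LinearMap.mulRight L (asym L n' r) (e x) := by
      intro x
      have : (LinearMap.mulRight k a).baseChange L x = x * ((1 : L) ⊗ₜ[k] a) := by
        induction x using TensorProduct.induction_on with
        | zero => simp
        | tmul l t => simp
        | add x y hx hy => rw [map_add, hx, hy, add_mul]
      rw [this, ← ha]
      show Φ (x * x₀) = Φ x * asym L n' r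
      rw [map_mul, hx₀]
    refine (e.ofSubmodules _ _ ?_).finrank_eq
    ext y
    constructor
    · rintro ⟨_, ⟨x, rfl⟩, rfl⟩; exact ⟨e x, (hcomm x).symm⟩
    · rintro ⟨X, rfl⟩
      exact ⟨_, ⟨e.symm X, rfl⟩, (hcomm _).trans (congrArg _ (e.apply_symm_apply X))⟩
  refine ⟨Module.finrank k W, (algEquivMatrix (Module.finBasis k W)).toAlgHom.comp f, ?_, ?_⟩
  · rw [hdim]
    exact Nat.mul_pos (pow_pos (Nat.pos_of_ne_zero (NeZero.ne n')) r) (Nat.choose_pos hr)
  · rw [hdim, finrank_pw, hn, mul_mul_mul_comm, mul_pow]

end Groth.Agent.Brauer
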