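import Mathlib

/-! Algebra isomorphisms between tensor powers. -/

set_option autoImplicit false

universe u v w w'

open scoped TensorProduct
open PiTensorProduct

namespace Groth.Agent.Brauer

variable {R : Type u} [CommRing R] {ι : Type*} {A : ι → Type v} [∀ i, Ring (A i)] [∀ i, Algebra R (A i)]

theorem map_mul_of_tprod {B : Type w} [Ring B] [Algebra R B] (f : (⨂[R] i, A i) →ₗ[R] B)
    (h : ∀ x y : Π i, A i, f (tprod R (x * y)) = f (tprod R x) * f (tprod R y)) (x y : ⨂[R] i, A i) :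
    f (x * y) = f x * f y := by
  induction x using PiTensorProduct.induction_on with
  | smul_tprod r a =>
    induction y using PiTensorProduct.induction_on with
    | smul_tprod s b =>
      rw [smul_mul_smul_comm, tprod_mul_tprod, map_smul, map_smul, map_smul, h, smul_mul_smul_comm]
    | add y z hy hz => rw [mul_add, map_add, map_add, hy, hz, mul_add]
  | add x z hx hz => rw [add_mul, map_add, map_add, hx, hz, add_mul]

/-- An algebra hom given on pure tensors. -/
noncomputable def algHom {B : Type w} [Ring B] [Algebra R B] (f : (⨂[R] i, A i) →ₗ[R] B)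
    (h1 : f (tprod R 1) = 1)
    (h : ∀ x y : Π i, A i, f (tprod R (x * y)) = f (tprod R x) * f (tprod R y)) :
    (⨂[R] i, A i) →ₐ[R] B :=
  AlgHom.ofLinearMap f h1 (map_mul_of_tprod f h)

/-- An algebra equivalence given on pure tensors. -/
noncomputable def algEquiv {B : Type w} [Ring B] [Algebra R B] (f : (⨂[R] i, A i) ≃ₗ[R] B)
    (h1 : f (tprod R 1) = 1)
    (h : ∀ x y : Π i, A i, f (tprod R (x * y)) = f (tprod R x) * f (tprod R y)) :
    (⨂[R] i, A i) ≃ₐ[R] B :=
  AlgEquiv.ofLinearEquiv f h1 (map_mul_of_tprod f.toLinearMap h)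

/-- Tensor products of isomorphic algebras. -/
noncomputable def congrAlg {B : ι → Type w} [∀ i, Ring (B i)] [∀ i, Algebra R (B i)]
    (e : ∀ i, A i ≃ₐ[R] B i) : (⨂[R] i, A i) ≃ₐ[R] ⨂[R] i, B i :=
  algEquiv (PiTensorProduct.congr fun i => (e i).toLinearEquiv)
    (by
      rw [congr_tprod]
      show tprod R (fun i => e i 1) = _
      simp only [map_one]
      rfl)
    (fun x y => by
      rw [congr_tprod, congr_tprod, congr_tprod, tprod_mul_tprod]
      congr 1
      funext i
      exact map_mul (e i) (x i) (y i))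

/-- Change of the index type. -/
noncomputable def reindexAlg {ι' : Type*} (e : ι ≃ ι') :
    (⨂[R] i, A i) ≃ₐ[R] ⨂[R] i' : ι', A (e.symm i') :=
  algEquiv (PiTensorProduct.reindex R A e)
    (by rw [reindex_tprod]; rfl)
    (fun x y => by rw [reindex_tprod, reindex_tprod, reindex_tprod, tprod_mul_tprod]; rfl)

/-- The empty tensor product. -/
noncomputable def emptyAlg [IsEmpty ι] : (⨂[R] i, A i) ≃ₐ[R] R :=
  algEquiv (PiTensorProduct.isEmptyEquiv ι) (isEmptyEquiv_apply_tprod _ _)
    (fun x y => by simp only [isEmptyEquiv_apply_tprod, one_mul])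

/-- A tensor product with one factor. -/
noncomputable def singleAlg [Subsingleton ι] (i₀ : ι) : (⨂[R] i, A i) ≃ₐ[R] A i₀ :=
  algEquiv (PiTensorProduct.subsingletonEquiv i₀) (subsingletonEquiv_apply_tprod i₀ _)
    (fun x y => by
      rw [subsingletonEquiv_apply_tprod, subsingletonEquiv_apply_tprod, subsingletonEquiv_apply_tprod]
      rfl)

/-- Splitting a tensor product over a disjoint union. -/
noncomputable def sumAlg {κ : Type*} (N : ι ⊕ κ → Type w) [∀ i, Ring (N i)] [∀ i, Algebra R (N i)] :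
    (⨂[R] i, N i) ≃ₐ[R] (⨂[R] i : ι, N (.inl i)) ⊗[R] (⨂[R] i : κ, N (.inr i)) :=
  algEquiv (PiTensorProduct.tmulEquivDep R N).symm
    (by rw [tmulEquivDep_symm_apply]; rfl)
    (fun x y => by
      rw [tmulEquivDep_symm_apply, tmulEquivDep_symm_apply, tmulEquivDep_symm_apply,
        Algebra.TensorProduct.tmul_mul_tmul, tprod_mul_tprod, tprod_mul_tprod]
      rfl)

section Pow

variable (R) (M : Type v) [Ring M] [Algebra R M]

/-- The tensor power. -/
abbrev pw (e : ℕ) : Type (max u v) := ⨂[R] _ : Fin e, M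

/-- `M^(a+b) = M^a ⊗ M^b`. -/
noncomputable def pwAdd (a b : ℕ) : pw R M (a + b) ≃ₐ[R] pw R M a ⊗[R] pw R M b :=
  (reindexAlg (A := fun _ : Fin (a + b) => M) finSumFinEquiv.symm).trans
    (sumAlg (fun _ : Fin a ⊕ Fin b => M))

/-- `M^1 = M`. -/
noncomputable def pwOne : pw R M 1 ≃ₐ[R] M := singleAlg (0 : Fin 1)

/-- `M^0 = R`. -/
noncomputable def pwZero : pw R M 0 ≃ₐ[R] R := emptyAlg

/-- `M^(e+1) = M^e ⊗ M`. -/
noncomputable def pwSucc (e : ℕ) : pw R M (e + 1) ≃ₐ[R] pw R M e ⊗[R] M :=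
  (pwAdd R M e 1).trans (Algebra.TensorProduct.congr AlgEquiv.refl (pwOne R M))

theorem pwMul (a : ℕ) : ∀ b : ℕ, Nonempty (pw R M (a * b) ≃ₐ[R] pw R (pw R M a) b)
  | 0 => ⟨((reindexAlg (A := fun _ : Fin (a * 0) => M) (finCongr (mul_zero a))).trans
      (pwZero R M)).trans (pwZero R (pw R M a)).symm⟩
  | b + 1 => by
    obtain ⟨e⟩ := pwMul a b
    exact ⟨(((reindexAlg (A := fun _ : Fin (a * (b + 1)) => M) (finCongr (Nat.mul_succ a b))).trans
      (pwAdd R M (a * b) a)).trans (Algebra.TensorProduct.congr e AlgEquiv.refl)).trans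
      (pwSucc R (pw R M a) b).symm⟩

theorem pwTensor (N : Type w) [Ring N] [Algebra R N] :
    ∀ e : ℕ, Nonempty (pw R (M ⊗[R] N) e ≃ₐ[R] pw R M e ⊗[R] pw R N e)
  | 0 => ⟨(pwZero R (M ⊗[R] N)).trans
      ((Algebra.TensorProduct.congr (pwZero R M) (pwZero R N)).trans (Algebra.TensorProduct.lid R R)).symm⟩
  | e + 1 => by
    obtain ⟨f⟩ := pwTensor N e
    exact ⟨(((pwSucc R (M ⊗[R] N) e).trans (Algebra.TensorProduct.congr f AlgEquiv.refl)).trans
      (Algebra.TensorProduct.tensorTensorTensorComm R R R R (pw R M e) (pw R N e) M N)).trans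
      (Algebra.TensorProduct.congr (pwSucc R M e).symm (pwSucc R N e).symm)⟩

end Pow

end Groth.Agent.Brauer
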