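import Groth.Agent.Brauer.Period
import Groth.Agent.Brauer.SplitField

set_option autoImplicit false
universe u v w z
open scoped TensorProduct
namespace Groth.Agent.Brauer
variable {k : Type u} [Field k]

/-- Splitting fields depend only on the Brauer class. -/
theorem splits_of_eqv (K : Type u) [Field K] [Algebra k K] {A : Type u} [Ring A] [Algebra k A]
    {B : Type u} [Ring B] [Algebra k B] (hB : IsCSA k B) (h : Eqv k A B) (hA : Curves.Splits k A K) :
    Curves.Splits k B K := by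
  have hM : ∀ s : ℕ, s ≠ 0 → Curves.Splits k (Matrix (Fin s) (Fin s) k) K := fun s hs => by
    haveI : NeZero s := ⟨hs⟩
    exact (splits_iff ⟨inferInstance, inferInstance, inferInstance⟩ K).2
      ((indDvd_matrix s (Nat.pos_of_ne_zero hs)).baseChange K)
  obtain ⟨a, b, ha, hb, ⟨e⟩⟩ := h
  obtain ⟨P, hP, ⟨f⟩⟩ := splits_congr K e (splits_tensor K A _ hA (hM a ha))
  obtain ⟨N, hN, ⟨g⟩⟩ := hM b hb
  let c : (K ⊗[k] B) ⊗[K] (K ⊗[k] Matrix (Fin b) (Fin b) k) ≃ₐ[K] (K ⊗[k] B) ⊗[k] Matrix (Fin b) (Fin b) k :=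
    AlgEquiv.symm <| AlgEquiv.ofLinearEquiv
      (TensorProduct.AlgebraTensorModule.cancelBaseChange k K K (K ⊗[k] B) (Matrix (Fin b) (Fin b) k)).symm
      (by simp [Algebra.TensorProduct.one_def]) <|
        LinearMap.map_mul_of_map_mul_tmul (fun _ _ _ _ ↦ by simp)
  have h1 : Eqv K (K ⊗[k] B) K := ⟨N, P, hN, hP,
    ⟨(Algebra.TensorProduct.congr AlgEquiv.refl g.symm).trans <| c.trans <|
      (Algebra.TensorProduct.assoc k k K K B _).trans <| f.trans (Algebra.TensorProduct.lid K _).symm⟩⟩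
  haveI := (hB.baseChange K).central
  haveI := (hB.baseChange K).simple
  haveI := (hB.baseChange K).finite
  obtain ⟨m, hm, ⟨j⟩⟩ := (split_iff_eqv _).2 h1
  exact ⟨m, hm, ⟨(Algebra.TensorProduct.lid K _).symm.trans j⟩⟩

end Groth.Agent.Brauer
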