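import Groth.Agent.Brauer.Antisym
import Groth.Prelude.Def_Curves
import Groth.Prelude.Def_GSzCSA
import Mathlib.Data.Nat.Choose.Lucas
import Mathlib.Data.Int.GCD
import Mathlib.Algebra.Algebra.Opposite

/-! Period and index of a central simple algebra. -/

set_option autoImplicit false

universe u v w w'

open scoped TensorProduct
open MulOpposite

namespace Groth.Agent.Brauer

open Groth.Agent.Azumaya

variable {k : Type u} [Field k]

theorem indDvd_division {D : Type v} [DivisionRing D] [Algebra k D] {d : ℕ} (hd0 : 0 < d)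
    (hd : Module.finrank k D = d * d) (n : ℕ) : IndDvd k D n ↔ 0 < n ∧ d ∣ n := by
  haveI : FiniteDimensional k D := Module.finite_of_finrank_pos (by rw [hd]; exact Nat.mul_pos hd0 hd0)
  constructor
  · intro hn
    refine ⟨hn.pos, ?_⟩
    obtain ⟨N, f, h0, hN⟩ := hn
    have hNdn : N = d * n := by
      rw [hd, ← mul_mul_mul_comm] at hN
      exact Nat.mul_self_inj.1 hN
    letI : Module D (Fin N → k) :=
      Module.compHom _ (Matrix.toLinAlgEquiv'.toAlgHom.comp f).toRingHom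
    haveI : IsScalarTower k D (Fin N → k) := ⟨fun r x v => by
      show (Matrix.toLinAlgEquiv'.toAlgHom.comp f) (r • x) v = r • (Matrix.toLinAlgEquiv'.toAlgHom.comp f) x v
      rw [map_smul]
      rfl⟩
    have hmul := Module.finrank_mul_finrank k D (Fin N → k)
    rw [Module.finrank_fin_fun, hd] at hmul
    exact ⟨_, (Nat.eq_of_mul_eq_mul_left hd0 (((mul_assoc _ _ _).symm.trans hmul).trans hNdn)).symm⟩
  · rintro ⟨hn0, j, rfl⟩
    exact IndDvd.mul_right ⟨Module.finrank k D,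
      (algEquivMatrix (Module.finBasis k D)).toAlgHom.comp (Algebra.lmul k D),
      by rw [hd]; exact Nat.mul_pos hd0 hd0, by rw [hd]⟩ (pos_of_mul_pos_right hn0 (Nat.zero_le _))

variable {A : Type v} [Ring A] [Algebra k A] {B : Type w} [Ring B] [Algebra k B]

theorem splits_self_iff (hA : IsCSA k A) : Curves.Splits k A k ↔ IndDvd k A 1 := by
  rw [indDvd_one_iff hA]
  exact ⟨fun ⟨n, hn, ⟨e⟩⟩ => ⟨n, Nat.pos_of_ne_zero hn, ⟨(Algebra.TensorProduct.lid k A).symm.trans e⟩⟩,
    fun ⟨n, hn, ⟨e⟩⟩ => ⟨n, hn.ne', ⟨(Algebra.TensorProduct.lid k A).trans e⟩⟩⟩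

theorem splits_iff (hA : IsCSA k A) (K : Type w') [Field K] [Algebra k K] :
    Curves.Splits k A K ↔ IndDvd K (K ⊗[k] A) 1 := by
  rw [indDvd_one_iff (hA.baseChange K)]
  exact ⟨fun ⟨n, hn, h⟩ => ⟨n, Nat.pos_of_ne_zero hn, h⟩, fun ⟨n, hn, h⟩ => ⟨n, hn.ne', h⟩⟩

theorem indDvd_pw_matrix {m r n : ℕ} [NeZero m] :
    IndDvd k (pw k (Matrix (Fin m) (Fin m) A) r) n ↔ IndDvd k (pw k A r) n := by
  obtain ⟨f⟩ := pwTensor k A (Matrix (Fin m) (Fin m) k) r
  rw [indDvd_congr ((congrAlg (A := fun _ : Fin r => Matrix (Fin m) (Fin m) A)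
    (fun _ => matrixEquivTensor (Fin m) k A)).trans f)]
  have hM : IsCSA k (Matrix (Fin m) (Fin m) k) :=
    ⟨inferInstance, inferInstance, inferInstance⟩
  refine indDvd_tensor_split (hM.pw r) ?_
  simpa using (indDvd_matrix (k := k) m (Nat.pos_of_ne_zero (NeZero.ne m))).pow r

/-- Brauer equivalent algebras. -/
theorem indDvd_pw_brauer {m m' r n : ℕ} [NeZero m] [NeZero m']
    (e : Matrix (Fin m) (Fin m) A ≃ₐ[k] Matrix (Fin m') (Fin m') B) :
    IndDvd k (pw k A r) n ↔ IndDvd k (pw k B r) n := by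
  rw [← indDvd_pw_matrix (A := A) (m := m), ← indDvd_pw_matrix (A := B) (m := m')]
  exact indDvd_congr (congrAlg (A := fun _ : Fin r => Matrix (Fin m) (Fin m) A) fun _ => e)

theorem indDvd_brauer {m m' n : ℕ} [NeZero m] [NeZero m']
    (e : Matrix (Fin m) (Fin m) A ≃ₐ[k] Matrix (Fin m') (Fin m') B) :
    IndDvd k A n ↔ IndDvd k B n := by
  rw [← indDvd_matrix_iff (S := A) (m := m), ← indDvd_matrix_iff (S := B) (m := m')]
  exact indDvd_congr e

theorem indDvd_pw_one {n : ℕ} : IndDvd k (pw k A 1) n ↔ IndDvd k A n :=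
  indDvd_congr (pwOne k A)

theorem neZero_of_iso {m : ℕ} [Nontrivial A] {C : Type w} [Ring C] [Algebra k C]
    (e : A ≃ₐ[k] Matrix (Fin m) (Fin m) C) : NeZero m :=
  ⟨fun h => by subst h; exact not_subsingleton A e.toEquiv.subsingleton⟩

/-- The index through a presentation. -/
theorem indDvd_iff_of_iso (hA : IsCSA k A) {D : Type w} [DivisionRing D] [Algebra k D] {m d : ℕ}
    (e : A ≃ₐ[k] Matrix (Fin m) (Fin m) D) (hd : Module.finrank k D = d ^ 2) :
    0 < d ∧ ∀ n, IndDvd k A n ↔ 0 < n ∧ d ∣ n := by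
  haveI := hA.nontrivial
  haveI := neZero_of_iso e
  haveI := hA.finite
  have hd0 : 0 < d := by
    rcases Nat.eq_zero_or_pos d with rfl | h
    · have := hA.finrank_pos
      rw [e.toLinearEquiv.finrank_eq, Module.finrank_matrix, hd] at this
      simp at this
    · exact h
  exact ⟨hd0, fun n => (indDvd_congr e).trans
    (indDvd_matrix_iff.trans (indDvd_division hd0 (by rw [hd, sq]) n))⟩

theorem indDvd_iff_of_isIndex (hA : IsCSA k A) {d : ℕ} (h : CSAGal.IsIndex k A d) :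
    0 < d ∧ ∀ n, IndDvd k A n ↔ 0 < n ∧ d ∣ n := by
  obtain ⟨-, m, D, _, _, -, hd, ⟨e⟩⟩ := h
  exact indDvd_iff_of_iso hA e hd

theorem exists_isIndex (hA : IsCSA k A) : ∃ d, CSAGal.IsIndex k A d := by
  obtain ⟨d, hd0, -, m, D, _, _, hm, -, hd, he⟩ := exists_index hA
  exact ⟨d, hd0, m, D, inferInstance, inferInstance, hm, hd, he⟩

theorem isIndex_of_indDvd (hA : IsCSA k A) {d : ℕ} (h : ∀ n, IndDvd k A n ↔ 0 < n ∧ d ∣ n) :
    CSAGal.IsIndex k A d := by
  obtain ⟨d', hd'⟩ := exists_isIndex hA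
  obtain ⟨hd'0, h'⟩ := indDvd_iff_of_isIndex hA hd'
  have h1 : 0 < d' ∧ d ∣ d' := (h d').1 ((h' d').2 ⟨hd'0, dvd_rfl⟩)
  have hd : 0 < d := Nat.pos_of_dvd_of_pos h1.2 h1.1
  have h2 : 0 < d ∧ d' ∣ d := (h' d).1 ((h d).2 ⟨hd, dvd_rfl⟩)
  rwa [Nat.dvd_antisymm h1.2 h2.2]

theorem IsCSA.op (hA : IsCSA k A) : IsCSA k Aᵐᵒᵖ := by
  haveI := hA.simple; haveI := hA.finite
  refine ⟨⟨fun x hx => ?_⟩, inferInstance, Module.Finite.equiv (MulOpposite.opLinearEquiv k)⟩
  have hx' : x.unop ∈ Subalgebra.center k A := Subalgebra.mem_center_iff.2 fun b =>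
    (congrArg unop (Subalgebra.mem_center_iff.1 hx (MulOpposite.op b))).symm
  have := hA.central
  obtain ⟨r, hr⟩ := (Algebra.IsCentral.mem_center_iff (K := k)).1 hx'
  exact Algebra.mem_bot.2 ⟨r, by rw [MulOpposite.algebraMap_apply, ← hr, op_unop]⟩

theorem exists_splitting_field_op {D : Type v} [DivisionRing D] [Algebra k D] [Algebra.IsCentral k D]
    [FiniteDimensional k D] {d : ℕ} (hd : Module.finrank k D = d * d) :
    ∃ (L : Type v) (_ : Field L) (_ : Algebra k L) (_ : FiniteDimensional k L),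
      Module.finrank k L = d ∧ Nonempty ((L ⊗[k] Dᵐᵒᵖ) ≃ₐ[L] Matrix (Fin d) (Fin d) L) := by
  classical
  let P : ℕ → Prop := fun l => ∃ S : Subalgebra k D,
    (∀ x ∈ S, ∀ y ∈ S, x * y = y * x) ∧ Module.finrank k S = l
  have hP : ∃ l, P l ∧ ∀ l', P l' → l' ≤ l := by
    refine ⟨Nat.findGreatest P (Module.finrank k D), ?_, fun l' hl' => Nat.le_findGreatest ?_ hl'⟩
    · refine Nat.findGreatest_spec (P := P) (m := Module.finrank k (⊥ : Subalgebra k D))
        (Submodule.finrank_le (Subalgebra.toSubmodule (⊥ : Subalgebra k D))) ⟨⊥, fun x hx y hy => ?_, rfl⟩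
      obtain ⟨a, rfl⟩ := Algebra.mem_bot.1 hx
      exact Algebra.commutes a y
    · obtain ⟨S, -, rfl⟩ := hl'
      exact Submodule.finrank_le (Subalgebra.toSubmodule S)
  obtain ⟨l, ⟨S, hcomm, hl⟩, hmax⟩ := hP
  have hcent : ∀ x : D, (∀ s ∈ S, s * x = x * s) → x ∈ S := by
    intro x hx
    let S' := Algebra.adjoin k ((S : Set D) ∪ {x})
    have hS' : ∀ a ∈ S', ∀ b ∈ S', a * b = b * a := by
      have : ∀ a ∈ (S : Set D) ∪ {x}, ∀ b ∈ (S : Set D) ∪ {x}, a * b = b * a := by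
        rintro a (ha | ha) b (hb | hb)
        · exact hcomm a ha b hb
        · rw [Set.mem_singleton_iff.1 hb]; exact hx a ha
        · rw [Set.mem_singleton_iff.1 ha]; exact (hx b hb).symm
        · rw [Set.mem_singleton_iff.1 ha, Set.mem_singleton_iff.1 hb]
      haveI := Algebra.isMulCommutative_adjoin k this
      exact fun a ha b hb => setLike_mul_comm (s := S') ha hb
    have hle : S ≤ S' := fun y hy => Algebra.subset_adjoin (Or.inl hy)
    have heq : Subalgebra.toSubmodule S = Subalgebra.toSubmodule S' :=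
      Submodule.eq_of_le_of_finrank_le hle ((hmax _ ⟨S', hS', rfl⟩).trans hl.ge)
    rw [← Subalgebra.mem_toSubmodule, heq]
    exact Algebra.subset_adjoin (Or.inr rfl)
  letI : CommRing S :=
    { (inferInstance : Ring S) with mul_comm := fun a b => Subtype.ext (hcomm _ a.2 _ b.2) }
  letI : Field S := fieldOfFiniteDimensional k S
  haveI : FiniteDimensional S D := Module.Finite.of_restrictScalars_finite k S D
  let lam : Dᵐᵒᵖ →ₐ[k] Module.End S D :=
    { toFun := fun y => { toFun := fun x => x * y.unop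
                          map_add' := fun a b => add_mul a b _
                          map_smul' := fun a x => smul_mul_assoc a x _ }
      map_one' := LinearMap.ext fun x => mul_one x
      map_mul' := fun y z => LinearMap.ext fun x => (mul_assoc x z.unop y.unop).symm
      map_zero' := LinearMap.ext fun x => mul_zero x
      map_add' := fun y z => LinearMap.ext fun x => mul_add x y.unop z.unop
      commutes' := fun c => LinearMap.ext fun x => by
        show x * algebraMap k D c = c • x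
        rw [← Algebra.commutes, Algebra.smul_def] }
  let f : S ⊗[k] Dᵐᵒᵖ →ₐ[S] Module.End S D :=
    Algebra.TensorProduct.lift (Algebra.ofId S _) lam fun a y => Algebra.commutes a _
  have hf : ∀ (a : S) (y x : D), f (a ⊗ₜ[k] op y) x = (a : D) * (x * y) := fun a y x => by
    simp only [f, Algebra.TensorProduct.lift_tmul]
    rfl
  letI : Module (S ⊗[k] Dᵐᵒᵖ) D := Module.compHom D f.toRingHom
  have hsmul : ∀ (t : S ⊗[k] Dᵐᵒᵖ) (x : D), t • x = f t x := fun _ _ => rfl
  haveI : IsSimpleModule (S ⊗[k] Dᵐᵒᵖ) D := isSimpleModule_iff_toSpanSingleton_surjective.mpr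
    ⟨inferInstance, fun x hx y => ⟨(1 : S) ⊗ₜ[k] op (x⁻¹ * y), by
      rw [LinearMap.toSpanSingleton_apply, hsmul, hf, OneMemClass.coe_one, one_mul,
        mul_inv_cancel_left₀ hx]⟩⟩
  have hend : ∀ h : Module.End (S ⊗[k] Dᵐᵒᵖ) D, ∃ a : S, ∀ x, h x = a • x := by
    intro h
    have h1 : ∀ x, h x = h 1 * x := fun x => by
      have := map_smul h ((1 : S) ⊗ₜ[k] op x) (1 : D)
      rwa [hsmul, hsmul, hf, hf, OneMemClass.coe_one, one_mul, one_mul, one_mul] at this
    refine ⟨⟨h 1, hcent _ fun s hs => ?_⟩, h1⟩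
    have := map_smul h ((⟨s, hs⟩ : S) ⊗ₜ[k] op (1 : D)) (1 : D)
    rw [hsmul, hsmul, hf, hf, mul_one, mul_one, mul_one] at this
    rw [← h1 s]; exact this.symm
  have hsurj : Function.Surjective f := by
    intro F
    let b := Module.finBasis S D
    let F' : Module.End (Module.End (S ⊗[k] Dᵐᵒᵖ) D) D :=
      { toFun := F
        map_add' := F.map_add
        map_smul' := fun h x => by
          obtain ⟨a, ha⟩ := hend h
          show F (h x) = h (F x)
          rw [ha, ha, map_smul] }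
    obtain ⟨t, ht⟩ := jacobson_density F' (Finset.univ.image b)
    exact ⟨t, b.ext fun i => (ht (b i) (Finset.mem_image_of_mem _ (Finset.mem_univ i))).symm⟩
  have hD : IsCSA k Dᵐᵒᵖ := IsCSA.op ⟨inferInstance, inferInstance, inferInstance⟩
  haveI := (hD.baseChange S).simple
  haveI : Nontrivial (Module.End S D) := inferInstance
  have hinj : Function.Injective f := RingHom.injective f.toRingHom
  let e : S ⊗[k] Dᵐᵒᵖ ≃ₐ[S] Module.End S D := AlgEquiv.ofBijective f ⟨hinj, hsurj⟩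
  have hdop : Module.finrank k Dᵐᵒᵖ = d * d := by
    rw [← hd]; exact (MulOpposite.opLinearEquiv k).finrank_eq.symm
  have hm : Module.finrank S D = d := by
    have := e.toLinearEquiv.finrank_eq
    rw [Module.finrank_baseChange, hdop, Module.finrank_linearMap] at this
    exact (Nat.mul_self_inj.1 this).symm
  have hd0 : 0 < d := Nat.pos_of_ne_zero fun h => by
    have := hD.finrank_pos
    simp [hdop, h] at this
  refine ⟨S, inferInstance, inferInstance, inferInstance, ?_,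
    ⟨e.trans (algEquivMatrix (Module.finBasisOfFinrankEq S D hm))⟩⟩
  have := Module.finrank_mul_finrank k S D
  rw [hm, hd] at this
  exact Nat.eq_of_mul_eq_mul_right hd0 this

/-- A maximal commutative subalgebra of a division algebra is a splitting field. -/
theorem exists_splitting_field {D : Type v} [DivisionRing D] [Algebra k D] [Algebra.IsCentral k D]
    [FiniteDimensional k D] {d : ℕ} (hd : Module.finrank k D = d * d) :
    ∃ (L : Type v) (_ : Field L) (_ : Algebra k L) (_ : FiniteDimensional k L),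
      Module.finrank k L = d ∧ Nonempty ((L ⊗[k] D) ≃ₐ[L] Matrix (Fin d) (Fin d) L) := by
  haveI := (IsCSA.op (k := k) (A := D) ⟨inferInstance, inferInstance, inferInstance⟩).central
  obtain ⟨L, _, _, _, hL, ⟨e⟩⟩ := exists_splitting_field_op (D := Dᵐᵒᵖ)
    ((MulOpposite.opLinearEquiv k).finrank_eq.symm.trans hd)
  exact ⟨L, inferInstance, inferInstance, inferInstance, hL,
    ⟨(Algebra.TensorProduct.congr AlgEquiv.refl (AlgEquiv.opOp k D)).trans e⟩⟩

/-- The index of every power divides the index. -/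
theorem IndDvd.pwSame (hA : IsCSA k A) {n : ℕ} (h : IndDvd k A n) (r : ℕ) : IndDvd k (pw k A r) n := by
  obtain ⟨d, hd0, hiff, m, D, _, _, hm, hD, hdim, ⟨e⟩⟩ := exists_index hA
  haveI := hD.central; haveI := hD.finite
  haveI : NeZero m := ⟨hm.ne'⟩
  rw [sq] at hdim
  obtain ⟨L, _, _, _, hL, ⟨φ⟩⟩ := exists_splitting_field hdim
  have h1 : IndDvd L (L ⊗[k] pw k D r) 1 := by
    refine ⟨d ^ r, (Matrix.reindexAlgEquiv L L finFunctionFinEquiv).toAlgHom.comp (powBase L φ r),
      pow_pos hd0 r, ?_⟩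
    rw [Module.finrank_baseChange, finrank_pw, hdim, ← mul_pow, mul_one, mul_one]
  have h2 := h1.restrict (k := k) L
  rw [one_mul, hL] at h2
  obtain ⟨-, j, rfl⟩ := (hiff n).1 h
  refine IndDvd.mul_right ?_ (pos_of_mul_pos_right h.pos (Nat.zero_le _))
  rw [indDvd_congr (congrAlg (A := fun _ : Fin r => A) fun _ => e)]
  exact indDvd_pw_matrix.2 h2

/-- The index kills the class. -/
theorem split_of_indDvd (hA : IsCSA k A) {n : ℕ} (h : IndDvd k A n) : IndDvd k (pw k A n) 1 := by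
  obtain ⟨d, hd0, hiff, m, D, _, _, hm, hD, hdim, ⟨e⟩⟩ := exists_index hA
  haveI : NeZero m := ⟨hm.ne'⟩
  obtain ⟨-, j, rfl⟩ := (hiff n).1 h
  rw [indDvd_congr (congrAlg (A := fun _ : Fin (d * j) => A) fun _ => e), indDvd_pw_matrix]
  refine indDvd_pw_split_mul ?_ j
  have := indDvd_choose hD (hdim.trans (sq d)) le_rfl
  rwa [Nat.choose_self] at this

theorem choose_prime_pow_mul {p : ℕ} [Fact p.Prime] (u : ℕ) :
    ∀ v : ℕ, (p ^ v * u).choose (p ^ v) ≡ u [MOD p]
  | 0 => by simp [Nat.ModEq]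
  | v + 1 => by
    have hp : 0 < p := (Fact.out : p.Prime).pos
    refine Choose.choose_modEq_choose_mod_mul_choose_div_nat.trans ?_
    rw [show p ^ (v + 1) * u = p * (p ^ v * u) by ring, pow_succ' p v, Nat.mul_mod_right,
      Nat.mul_mod_right, Nat.choose_self, one_mul, Nat.mul_div_cancel_left _ hp,
      Nat.mul_div_cancel_left _ hp]
    exact choose_prime_pow_mul u v

/-- The primes of the index divide every exponent. -/
theorem prime_dvd_exponent (hA : IsCSA k A) {d e : ℕ} (hd : ∀ n, IndDvd k A n ↔ 0 < n ∧ d ∣ n)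
    (hd0 : 0 < d) (he : 0 < e) (hsplit : IndDvd k (pw k A e) 1) {p : ℕ} (hp : p.Prime)
    (hpd : p ∣ d) : p ∣ e := by
  haveI : Fact p.Prime := ⟨hp⟩
  by_contra hpe
  obtain ⟨d', hd'0, hiff', m, D, _, _, hm, hD, hdim, ⟨f⟩⟩ := exists_index hA
  obtain rfl : d' = d :=
    Nat.dvd_antisymm ((hiff' d).1 ((hd d).2 ⟨hd0, dvd_rfl⟩)).2 ((hd d').1 ((hiff' d').2 ⟨hd'0, dvd_rfl⟩)).2
  haveI : NeZero m := ⟨hm.ne'⟩
  have hf : ∀ r n, IndDvd k (pw k A r) n ↔ IndDvd k (pw k D r) n := fun r n => by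
    rw [indDvd_congr (congrAlg (A := fun _ : Fin r => A) fun _ => f), indDvd_pw_matrix]
  rw [hf] at hsplit
  let v := d'.factorization p
  obtain ⟨u, hu⟩ : p ^ v ∣ d' := Nat.ordProj_dvd d' p
  have hpu : ¬ p ∣ u := fun ⟨c, hc⟩ => Nat.pow_succ_factorization_not_dvd hd0.ne' hp
    ⟨c, by show d' = p ^ (v + 1) * c; rw [hu, hc]; ring⟩
  have hq : IndDvd k (pw k D (p ^ v)) (d'.choose (p ^ v)) :=
    indDvd_choose hD (hdim.trans (sq d')) (Nat.le_of_dvd hd0 ⟨u, hu⟩)
  obtain ⟨j, hj⟩ : ∃ j, p ^ v * j % e = 1 % e := by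
    rcases Nat.lt_or_ge 1 e with h1 | h1
    · obtain ⟨j, -, hj⟩ := Nat.exists_mul_mod_eq_one_of_coprime
        (((hp.coprime_iff_not_dvd).2 hpe).pow_left v) h1
      exact ⟨j, by rw [hj, Nat.one_mod_eq_one.2 (by omega)]⟩
    · exact ⟨0, by interval_cases e; simp⟩
  have h2 : IndDvd k (pw k D (p ^ v * j)) (d'.choose (p ^ v) ^ j) := (indDvd_pw_mul j).2 (hq.pow j)
  rw [indDvd_pw_mod hD hsplit, hj, ← indDvd_pw_mod hD hsplit, indDvd_pw_one,
    indDvd_division hd'0 (hdim.trans (sq d'))] at h2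
  have h3 : p ∣ d'.choose (p ^ v) := hp.dvd_of_dvd_pow (hpd.trans h2.2)
  rw [hu] at h3
  exact hpu (Nat.modEq_zero_iff_dvd.1 ((choose_prime_pow_mul u v).symm.trans (Nat.modEq_zero_iff_dvd.2 h3)))

theorem period_spec (hA : IsCSA k A) {e : ℕ} (he : CSAGal.IsPeriod k A e) :
    0 < e ∧ ∀ b, IndDvd k (pw k A b) 1 ↔ e ∣ b := by
  obtain ⟨he0, hs, hmin⟩ := he
  have hs' := (splits_self_iff (hA.pw e)).1 hs
  refine ⟨he0, fun b => ⟨fun hb => dvd_of_period hA he0 hs'
    (fun e' h0 hlt h => hmin e' h0 hlt ((splits_self_iff (hA.pw e')).2 h)) hb, ?_⟩⟩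
  rintro ⟨j, rfl⟩
  exact indDvd_pw_split_mul hs' j

end Groth.Agent.Brauer
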