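import Groth.Agent.Brauer.Module
import Groth.Agent.Azumaya.Fibre
import Groth.Prelude.Def_GSzCSA

/-!
# Brauer equivalence, division algebra parts, index
-/

set_option autoImplicit false

universe u v w z z'

open scoped TensorProduct

namespace Groth.Agent.Brauer

variable {k : Type u} [Field k]

/-- Brauer equivalence: matrix algebras over the two algebras are isomorphic. -/
def Eqv (k : Type u) [Field k] (A : Type v) [Ring A] [Algebra k A] (B : Type w) [Ring B]
    [Algebra k B] : Prop :=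
  ∃ a b : ℕ, a ≠ 0 ∧ b ≠ 0 ∧
    Nonempty (A ⊗[k] Matrix (Fin a) (Fin a) k ≃ₐ[k] B ⊗[k] Matrix (Fin b) (Fin b) k)

section
variable {A : Type v} [Ring A] [Algebra k A] {B : Type w} [Ring B] [Algebra k B]
  {C : Type z} [Ring C] [Algebra k C] {B' : Type z'} [Ring B'] [Algebra k B']

/-- `Mat a ⊗ Mat b = Mat (a * b)` -/
noncomputable def matTensor (a b : ℕ) :
    Matrix (Fin a) (Fin a) k ⊗[k] Matrix (Fin b) (Fin b) k ≃ₐ[k]
      Matrix (Fin (a * b)) (Fin (a * b)) k :=
  (Matrix.kroneckerAlgEquiv (Fin a) (Fin b) k).trans (Matrix.reindexAlgEquiv k k finProdFinEquiv)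

/-- swap the last two factors -/
noncomputable def rightComm' : (A ⊗[k] B) ⊗[k] C ≃ₐ[k] (A ⊗[k] C) ⊗[k] B :=
  (Algebra.TensorProduct.assoc k k k A B C).trans <|
    (Algebra.TensorProduct.congr .refl (Algebra.TensorProduct.comm k B C)).trans
      (Algebra.TensorProduct.assoc k k k A C B).symm

theorem Eqv.of_algEquiv (e : A ≃ₐ[k] B) : Eqv k A B :=
  ⟨1, 1, one_ne_zero, one_ne_zero, ⟨Algebra.TensorProduct.congr e .refl⟩⟩

theorem Eqv.refl : Eqv k A A := .of_algEquiv .refl

theorem Eqv.symm (h : Eqv k A B) : Eqv k B A := by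
  obtain ⟨a, b, ha, hb, ⟨e⟩⟩ := h
  exact ⟨b, a, hb, ha, ⟨e.symm⟩⟩

theorem Eqv.trans (h : Eqv k A B) (h' : Eqv k B C) : Eqv k A C := by
  obtain ⟨a, b, ha, hb, ⟨e⟩⟩ := h
  obtain ⟨c, d, hc, hd, ⟨f⟩⟩ := h'
  refine ⟨a * c, d * b, mul_ne_zero ha hc, mul_ne_zero hd hb, ⟨?_⟩⟩
  exact (Algebra.TensorProduct.congr .refl (matTensor (k := k) a c).symm).trans <|
    (Algebra.TensorProduct.assoc k k k A _ _).symm.trans <|
    (Algebra.TensorProduct.congr e .refl).trans <| rightComm'.trans <|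
    (Algebra.TensorProduct.congr f .refl).trans <|
    (Algebra.TensorProduct.assoc k k k C _ _).trans <|
    (Algebra.TensorProduct.congr .refl (matTensor (k := k) d b))

theorem Eqv.tensor_right (h : Eqv k A B) : Eqv k (A ⊗[k] C) (B ⊗[k] C) := by
  obtain ⟨a, b, ha, hb, ⟨e⟩⟩ := h
  exact ⟨a, b, ha, hb, ⟨rightComm'.trans ((Algebra.TensorProduct.congr e .refl).trans rightComm')⟩⟩

theorem Eqv.tensor_left (h : Eqv k A B) : Eqv k (C ⊗[k] A) (C ⊗[k] B) :=
  ((Eqv.of_algEquiv (Algebra.TensorProduct.comm k C A)).trans h.tensor_right).trans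
    (.of_algEquiv (Algebra.TensorProduct.comm k B C))

theorem Eqv.tensor (h : Eqv k A B) (h' : Eqv k C B') : Eqv k (A ⊗[k] C) (B ⊗[k] B') :=
  h.tensor_right.trans h'.tensor_left

theorem eqv_matrix (n : ℕ) (hn : n ≠ 0) : Eqv k (Matrix (Fin n) (Fin n) A) A :=
  ⟨1, n * 1, one_ne_zero, by simpa using hn,
    ⟨(Algebra.TensorProduct.congr (matrixEquivTensor (Fin n) k A) .refl).trans <|
      (Algebra.TensorProduct.assoc k k k A _ _).trans <|
      Algebra.TensorProduct.congr .refl (matTensor (k := k) n 1)⟩⟩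

theorem eqv_self_of_split {n : ℕ} (hn : n ≠ 0) (e : A ≃ₐ[k] Matrix (Fin n) (Fin n) k) : Eqv k A k :=
  (Eqv.of_algEquiv e).trans (eqv_matrix n hn)

theorem Eqv.tensor_self_right : Eqv k (A ⊗[k] k) A :=
  .of_algEquiv (Algebra.TensorProduct.rid k k A)

theorem Eqv.tensor_self_left : Eqv k (k ⊗[k] A) A :=
  .of_algEquiv (Algebra.TensorProduct.lid k A)

/-- Brauer equivalence expressed with matrix algebras. -/
theorem eqv_iff : Eqv k A B ↔ ∃ a b : ℕ, a ≠ 0 ∧ b ≠ 0 ∧
    Nonempty (Matrix (Fin a) (Fin a) A ≃ₐ[k] Matrix (Fin b) (Fin b) B) := by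
  constructor
  · rintro ⟨a, b, ha, hb, ⟨e⟩⟩
    exact ⟨a, b, ha, hb, ⟨(matrixEquivTensor (Fin a) k A).trans
      (e.trans (matrixEquivTensor (Fin b) k B).symm)⟩⟩
  · rintro ⟨a, b, ha, hb, ⟨e⟩⟩
    exact ((eqv_matrix a ha).symm.trans (.of_algEquiv e)).trans (eqv_matrix b hb)

end

theorem isCentral_of_matrix {A : Type v} [Ring A] [Algebra k A] [Algebra.IsCentral k A]
    {D : Type v} [Ring D] [Algebra k D] {n : ℕ} (hn : n ≠ 0)
    (e : A ≃ₐ[k] Matrix (Fin n) (Fin n) D) : Algebra.IsCentral k D := by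
  have : Algebra.IsCentral k (Matrix (Fin n) (Fin n) D) := Algebra.IsCentral.of_algEquiv k A _ e
  refine ⟨fun d hd => ?_⟩
  have hm : Matrix.scalar (Fin n) d ∈ Subalgebra.center k (Matrix (Fin n) (Fin n) D) :=
    Subalgebra.mem_center_iff.2 fun M => (Matrix.scalar_commute d
      (fun r => (Subalgebra.mem_center_iff.1 hd r).symm) M).eq.symm
  obtain ⟨r, hr⟩ := Algebra.mem_bot.1 (Algebra.IsCentral.out hm)
  refine Algebra.mem_bot.2 ⟨r, ?_⟩
  have := congrFun (congrFun hr ⟨0, Nat.pos_of_ne_zero hn⟩) ⟨0, Nat.pos_of_ne_zero hn⟩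
  simpa [Matrix.algebraMap_matrix_apply, Matrix.scalar] using this

/-- a division algebra part -/
theorem exists_division (A : Type v) [Ring A] [Algebra k A] [Algebra.IsCentral k A] [IsSimpleRing A]
    [FiniteDimensional k A] :
    ∃ (m : ℕ) (D : Type v) (_ : DivisionRing D) (_ : Algebra k D),
      m ≠ 0 ∧ Algebra.IsCentral k D ∧ Module.Finite k D ∧
      Nonempty (A ≃ₐ[k] Matrix (Fin m) (Fin m) D) := by
  have := IsArtinianRing.of_finite k A
  obtain ⟨n, hn, D, _, _, _, ⟨e⟩⟩ := IsSimpleRing.exists_algEquiv_matrix_divisionRing_finite k A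
  exact ⟨n, D, inferInstance, inferInstance, hn.out, isCentral_of_matrix hn.out e,
    inferInstance, ⟨e⟩⟩

theorem finite_of_matrix {A : Type v} [Ring A] [Algebra k A] [FiniteDimensional k A]
    {D : Type w} [Ring D] [Algebra k D] {n : ℕ} (hn : n ≠ 0)
    (e : A ≃ₐ[k] Matrix (Fin n) (Fin n) D) : Module.Finite k D := by
  have := Module.Finite.equiv e.toLinearEquiv
  exact .of_surjective (Matrix.entryLinearMap k _ (⟨0, Nat.pos_of_ne_zero hn⟩ : Fin n)
    (⟨0, Nat.pos_of_ne_zero hn⟩ : Fin n)) fun f => ⟨fun _ _ => f, rfl⟩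

/-- the dimension of a central simple algebra is a square -/
theorem exists_degree (A : Type v) [Ring A] [Algebra k A] [Algebra.IsCentral k A] [IsSimpleRing A]
    [FiniteDimensional k A] : ∃ n : ℕ, n ≠ 0 ∧ Module.finrank k A = n ^ 2 := by
  let L := SeparableClosure k
  have : Algebra.IsCentral L (L ⊗[k] A) ∧ IsSimpleRing (L ⊗[k] A) := by
    have := Azumaya.isAzumaya_of_csa k A
    have : IsAzumaya L (L ⊗[k] A) := Azumaya.isAzumaya_baseChange (R := k) (A := A) L
    exact Azumaya.csa_of_isAzumaya L (L ⊗[k] A)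
  obtain ⟨_, _⟩ := this
  obtain ⟨n, hn, ⟨e⟩⟩ := Azumaya.matrix_of_isSepClosed L (L ⊗[k] A)
  refine ⟨n, hn.out, ?_⟩
  rw [← Module.finrank_baseChange (R := L) (S := k) (M' := A), e.toLinearEquiv.finrank_eq,
    Module.finrank_matrix, Fintype.card_fin, Module.finrank_self, mul_one, sq]

/-- two matrix presentations over division algebras have the same invariants -/
theorem unique_of_eqv {D : Type v} [DivisionRing D] [Algebra k D] [FiniteDimensional k D]
    {D' : Type w} [DivisionRing D'] [Algebra k D'] [FiniteDimensional k D'] {d d' : ℕ}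
    (hd : Module.finrank k D = d ^ 2) (hd' : Module.finrank k D' = d' ^ 2) (h : Eqv k D D') :
    d = d' := by
  obtain ⟨a, b, ha, hb, ⟨e⟩⟩ := eqv_iff.mp h
  have h1 := dvd_finrank_of_algEquiv e (colRep (k := k) D a)
  have h2 := dvd_finrank_of_algEquiv e.symm (colRep (k := k) D' b)
  rw [finrank_col] at h1 h2
  have hdim : a * a * Module.finrank k D = b * b * Module.finrank k D' := by
    simpa [Module.finrank_matrix] using e.toLinearEquiv.finrank_eq
  rw [hd, hd'] at h1 h2 hdim
  have h12 : a * d ^ 2 = b * d' ^ 2 := Nat.dvd_antisymm h2 h1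
  have hda : 0 < a * d ^ 2 := Nat.mul_pos (Nat.pos_of_ne_zero ha) (hd ▸ Module.finrank_pos)
  have hab : a = b := Nat.eq_of_mul_eq_mul_right hda (by
    calc a * (a * d ^ 2) = b * (b * d' ^ 2) := by rw [← mul_assoc, hdim, mul_assoc]
      _ = b * (a * d ^ 2) := by rw [h12])
  subst hab
  exact Nat.pow_left_injective two_ne_zero (Nat.eq_of_mul_eq_mul_left (Nat.pos_of_ne_zero ha) h12)

/-- Brauer equivalent algebras of the same dimension are isomorphic -/
theorem algEquiv_of_eqv (A : Type v) [Ring A] [Algebra k A] [Algebra.IsCentral k A] [IsSimpleRing A]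
    [FiniteDimensional k A] (B : Type w) [Ring B] [Algebra k B] [Algebra.IsCentral k B]
    [IsSimpleRing B] [FiniteDimensional k B] (h : Eqv k A B)
    (hdim : Module.finrank k A = Module.finrank k B) : Nonempty (A ≃ₐ[k] B) := by
  obtain ⟨a, b, ha, hb, ⟨e⟩⟩ := eqv_iff.mp h
  have h1 : a * a * Module.finrank k A = b * b * Module.finrank k B := by
    simpa [Module.finrank_matrix] using e.toLinearEquiv.finrank_eq
  rw [hdim] at h1
  have hab : a = b := Nat.mul_self_inj.mp (Nat.eq_of_mul_eq_mul_right Module.finrank_pos h1)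
  subst hab
  exact Azumaya.cancel_matrix k A B a ha e

section Index

variable (A : Type v) [Ring A] [Algebra k A] [Algebra.IsCentral k A] [IsSimpleRing A]
  [FiniteDimensional k A]

theorem exists_isIndex_eqv : ∃ d, CSAGal.IsIndex k A d := by
  obtain ⟨m, D, _, _, hm, hc, hf, he⟩ := exists_division (k := k) A
  obtain ⟨d, hd, hdim⟩ := exists_degree (k := k) D
  exact ⟨d, Nat.pos_of_ne_zero hd, m, D, _, _, Nat.pos_of_ne_zero hm, hdim, he⟩

omit [Algebra.IsCentral k A] [IsSimpleRing A] in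
/-- the index is a Brauer invariant -/
theorem isIndex_unique {B : Type w} [Ring B] [Algebra k B]
    [FiniteDimensional k B] {d d' : ℕ} (hA : CSAGal.IsIndex k A d)
    (hB : CSAGal.IsIndex k B d') (h : Eqv k A B) : d = d' := by
  obtain ⟨-, m, D, _, _, hm, hdim, ⟨e⟩⟩ := hA
  obtain ⟨-, m', D', _, _, hm', hdim', ⟨e'⟩⟩ := hB
  have := finite_of_matrix hm.ne' e
  have := finite_of_matrix hm'.ne' e'
  exact unique_of_eqv hdim hdim' ((((eqv_matrix m hm.ne').symm.trans (.of_algEquiv e.symm)).trans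
    h).trans ((Eqv.of_algEquiv e').trans (eqv_matrix m' hm'.ne')))

omit [Algebra.IsCentral k A] [IsSimpleRing A] in
/-- the index divides the dimension of a module over the degree -/
theorem index_mul_dvd {d n : ℕ} (hA : CSAGal.IsIndex k A d) (hn : Module.finrank k A = n ^ 2)
    {M : Type w} [AddCommGroup M] [Module k M] (ρ : A →ₐ[k] Module.End k M) :
    n * d ∣ Module.finrank k M := by
  obtain ⟨hd, m, D, _, _, hm, hdim, ⟨e⟩⟩ := hA
  have := finite_of_matrix hm.ne' e
  have h1 := dvd_finrank_of_algEquiv e ρ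
  have h2 : n ^ 2 = (m * d) ^ 2 := by
    rw [← hn, e.toLinearEquiv.finrank_eq, Module.finrank_matrix, Fintype.card_fin, hdim]
    ring
  rw [Nat.pow_left_injective two_ne_zero h2]
  rwa [hdim, sq, ← mul_assoc] at h1

omit [Algebra.IsCentral k A] [IsSimpleRing A] in
theorem index_dvd_degree {d n : ℕ} (hA : CSAGal.IsIndex k A d) (hn : Module.finrank k A = n ^ 2) :
    d ∣ n := by
  obtain ⟨hd, m, D, _, _, hm, hdim, ⟨e⟩⟩ := hA
  have := finite_of_matrix hm.ne' e
  refine ⟨m, Nat.pow_left_injective two_ne_zero ?_⟩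
  show n ^ 2 = _
  rw [← hn, e.toLinearEquiv.finrank_eq, Module.finrank_matrix, Fintype.card_fin, hdim]
  ring

theorem eqv_self_iff_index : CSAGal.IsIndex k A 1 ↔ Eqv k A k := by
  constructor
  · rintro ⟨-, m, D, _, _, hm, hdim, ⟨e⟩⟩
    have := finite_of_matrix hm.ne' e
    have hD : Module.finrank k D = 1 := by simpa using hdim
    refine ((Eqv.of_algEquiv e).trans (eqv_matrix m hm.ne')).trans (.of_algEquiv ?_)
    exact (AlgEquiv.ofBijective (Algebra.ofId k D) (bijective_algebraMap_of_linearEquiv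
      (LinearEquiv.ofFinrankEq k D (by rw [hD, Module.finrank_self])))).symm
  · intro h
    obtain ⟨d, hd⟩ := exists_isIndex_eqv (k := k) A
    have : CSAGal.IsIndex k k 1 :=
      ⟨one_pos, 1, k, inferInstance, inferInstance, one_pos, by simp,
        ⟨AlgEquiv.ofBijective (Algebra.ofId k (Matrix (Fin 1) (Fin 1) k))
          (bijective_algebraMap_of_linearEquiv (LinearEquiv.ofFinrankEq k _ (by
            rw [Module.finrank_self, Module.finrank_matrix, Fintype.card_fin, Module.finrank_self])))⟩⟩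
    exact (isIndex_unique A hd this h) ▸ hd

theorem split_iff_eqv : Curves.Splits k A k ↔ Eqv k A k := by
  constructor
  · rintro ⟨n, hn, ⟨e⟩⟩
    exact Eqv.tensor_self_left.symm.trans (eqv_self_of_split hn e)
  · intro h
    obtain ⟨n, hn, hdim⟩ := exists_degree (k := k) A
    have hAk : Module.finrank k A = Module.finrank k (Matrix (Fin n) (Fin n) k) := by
      rw [hdim, Module.finrank_matrix, Fintype.card_fin, Module.finrank_self, mul_one, sq]
    have : Nonempty (Fin n) := ⟨⟨0, Nat.pos_of_ne_zero hn⟩⟩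
    obtain ⟨e⟩ := algEquiv_of_eqv A _ (h.trans (eqv_matrix n hn).symm) hAk
    exact ⟨n, hn, ⟨(Algebra.TensorProduct.lid k A).trans e⟩⟩

end Index

end Groth.Agent.Brauer
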