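import Groth.Agent.Brauer.Eqv

/-!
# Algebra equivalences for tensor powers and their Brauer classes
-/

set_option autoImplicit false

universe u v w z z'

open scoped TensorProduct

namespace Groth.Agent.Brauer

variable {k : Type u} [Field k]

section Equivs

variable {ι : Type z} {ι' : Type z'} {A : Type v} [Ring A] [Algebra k A]

/-- `tmulEquivDep` as an algebra equivalence -/
noncomputable def tmulAlgEquiv {N : ι ⊕ ι' → Type v} [∀ i, Ring (N i)] [∀ i, Algebra k (N i)] :
    (⨂[k] i, N (.inl i)) ⊗[k] (⨂[k] j, N (.inr j)) ≃ₐ[k] ⨂[k] i, N i :=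
  Algebra.TensorProduct.algEquivOfLinearEquivTensorProduct (PiTensorProduct.tmulEquivDep k N)
    (fun a₁ a₂ b₁ b₂ => by
      induction a₁ using PiTensorProduct.induction_on with
      | add x y hx hy => simp only [add_mul, TensorProduct.add_tmul, map_add, hx, hy]
      | smul_tprod r x =>
      induction a₂ using PiTensorProduct.induction_on with
      | add y z hy hz => simp only [mul_add, TensorProduct.add_tmul, map_add, hy, hz]
      | smul_tprod r' y =>
      induction b₁ using PiTensorProduct.induction_on with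
      | add z z' hz hz' => simp only [add_mul, TensorProduct.tmul_add, map_add, hz, hz']
      | smul_tprod t z =>
      induction b₂ using PiTensorProduct.induction_on with
      | add q q' hq hq' => simp only [mul_add, TensorProduct.tmul_add, map_add, hq, hq']
      | smul_tprod t' q =>
      have key : PiTensorProduct.tmulEquivDep k N
            (PiTensorProduct.tprod k (x * y) ⊗ₜ[k] PiTensorProduct.tprod k (z * q)) =
          PiTensorProduct.tmulEquivDep k N (PiTensorProduct.tprod k x ⊗ₜ[k] PiTensorProduct.tprod k z) *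
            PiTensorProduct.tmulEquivDep k N (PiTensorProduct.tprod k y ⊗ₜ[k] PiTensorProduct.tprod k q) := by
        simp only [PiTensorProduct.tmulEquivDep_apply, PiTensorProduct.tprod_mul_tprod]
        congr 1
        funext i
        cases i <;> rfl
      simp only [smul_mul_assoc, mul_smul_comm, PiTensorProduct.tprod_mul_tprod,
        ← TensorProduct.smul_tmul', TensorProduct.tmul_smul, map_smul, key, smul_smul]
      ring_nf)
    (by
      show PiTensorProduct.tmulEquivDep k N (PiTensorProduct.tprod k 1 ⊗ₜ[k] PiTensorProduct.tprod k 1) = _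
      rw [PiTensorProduct.tmulEquivDep_apply, PiTensorProduct.one_def]
      congr 1
      funext i
      cases i <;> rfl)

/-- reindexing as an algebra equivalence -/
noncomputable def reindexAlgEquiv {N : ι → Type v} [∀ i, Ring (N i)] [∀ i, Algebra k (N i)]
    (e : ι ≃ ι') : (⨂[k] i, N i) ≃ₐ[k] ⨂[k] j, N (e.symm j) :=
  AlgEquiv.ofLinearEquiv (PiTensorProduct.reindex k N e)
    (by rw [PiTensorProduct.one_def, PiTensorProduct.reindex_tprod]; rfl)
    (LinearMap.map_mul_iff _ |>.mpr <| by
      ext x y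
      show PiTensorProduct.reindex k N e (PiTensorProduct.tprod k x * PiTensorProduct.tprod k y) =
        PiTensorProduct.reindex k N e (PiTensorProduct.tprod k x) *
          PiTensorProduct.reindex k N e (PiTensorProduct.tprod k y)
      simp only [PiTensorProduct.tprod_mul_tprod, PiTensorProduct.reindex_tprod]
      rfl)

/-- one factor -/
noncomputable def uniqueAlgEquiv [Subsingleton ι] (i₀ : ι) :
    (⨂[k] _ : ι, A) ≃ₐ[k] A :=
  AlgEquiv.ofLinearEquiv (PiTensorProduct.subsingletonEquiv i₀)
    (by rw [PiTensorProduct.one_def, PiTensorProduct.subsingletonEquiv_apply_tprod]; rfl)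
    (LinearMap.map_mul_iff _ |>.mpr <| by
      ext x y
      show PiTensorProduct.subsingletonEquiv i₀ (PiTensorProduct.tprod k x * PiTensorProduct.tprod k y) =
        PiTensorProduct.subsingletonEquiv i₀ (PiTensorProduct.tprod k x) *
          PiTensorProduct.subsingletonEquiv i₀ (PiTensorProduct.tprod k y)
      simp only [PiTensorProduct.tprod_mul_tprod, PiTensorProduct.subsingletonEquiv_apply_tprod]
      rfl)

/-- empty product -/
noncomputable def emptyAlgEquiv [IsEmpty ι] {N : ι → Type v} [∀ i, Ring (N i)] [∀ i, Algebra k (N i)] :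
    (⨂[k] i, N i) ≃ₐ[k] k :=
  AlgEquiv.ofLinearEquiv (PiTensorProduct.isEmptyEquiv ι)
    (by rw [PiTensorProduct.one_def, PiTensorProduct.isEmptyEquiv_apply_tprod])
    (LinearMap.map_mul_iff _ |>.mpr <| by
      ext x y
      show PiTensorProduct.isEmptyEquiv ι (PiTensorProduct.tprod k x * PiTensorProduct.tprod k y) =
        PiTensorProduct.isEmptyEquiv ι (PiTensorProduct.tprod k x) *
          PiTensorProduct.isEmptyEquiv ι (PiTensorProduct.tprod k y)
      simp)

variable (A)

/-- `A^{⊗ (r + s)}` -/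
noncomputable def tpowAdd (r s : ℕ) :
    CSAGal.tpow k A r ⊗[k] CSAGal.tpow k A s ≃ₐ[k] CSAGal.tpow k A (r + s) :=
  (tmulAlgEquiv (N := fun _ : Fin r ⊕ Fin s => A)).trans (reindexAlgEquiv finSumFinEquiv)

noncomputable def tpowOne : CSAGal.tpow k A 1 ≃ₐ[k] A := uniqueAlgEquiv (0 : Fin 1)

noncomputable def tpowZero : CSAGal.tpow k A 0 ≃ₐ[k] k := emptyAlgEquiv

noncomputable def tpowSucc (r : ℕ) : CSAGal.tpow k A r ⊗[k] A ≃ₐ[k] CSAGal.tpow k A (r + 1) :=
  (Algebra.TensorProduct.congr .refl (tpowOne A).symm).trans (tpowAdd A r 1)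

end Equivs

theorem csa_tensor (A : Type v) [Ring A] [Algebra k A] [Algebra.IsCentral k A] [IsSimpleRing A]
    [FiniteDimensional k A] (B : Type w) [Ring B] [Algebra k B] [Algebra.IsCentral k B]
    [IsSimpleRing B] :
    Algebra.IsCentral k (A ⊗[k] B) ∧ IsSimpleRing (A ⊗[k] B) :=
  ⟨Azumaya.isCentral_tensor k A B, Azumaya.isSimpleRing_tensor k A B⟩

theorem csa_of_algEquiv {A : Type v} [Ring A] [Algebra k A] {B : Type v} [Ring B] [Algebra k B]
    (e : A ≃ₐ[k] B) (h : Algebra.IsCentral k A ∧ IsSimpleRing A) :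
    Algebra.IsCentral k B ∧ IsSimpleRing B :=
  ⟨haveI := h.1; Algebra.IsCentral.of_algEquiv k A B e, haveI := h.2; IsSimpleRing.of_ringEquiv e.toRingEquiv h.2⟩

section Powers

variable (A : Type v) [Ring A] [Algebra k A]

instance finite_tpow [FiniteDimensional k A] (r : ℕ) : FiniteDimensional k (CSAGal.tpow k A r) :=
  inferInstance

theorem finrank_tpow [FiniteDimensional k A] (r : ℕ) :
    Module.finrank k (CSAGal.tpow k A r) = Module.finrank k A ^ r := by
  classical
  rw [Module.finrank_eq_card_basis (Basis.piTensorProduct fun _ : Fin r => Module.finBasis k A)]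
  simp

variable [Algebra.IsCentral k A] [IsSimpleRing A] [FiniteDimensional k A]

theorem csa_tpow (r : ℕ) :
    Algebra.IsCentral k (CSAGal.tpow k A r) ∧ IsSimpleRing (CSAGal.tpow k A r) := by
  induction r with
  | zero =>
    let e : ULift.{v} k ≃ₐ[k] k := ULift.algEquiv
    exact ⟨⟨fun x hx => Algebra.mem_bot.2 ⟨tpowZero A x, (tpowZero A).injective (by
        rw [AlgEquiv.commutes]; rfl)⟩⟩,
      IsSimpleRing.of_ringEquiv (e.trans (tpowZero A).symm).toRingEquiv
        (IsSimpleRing.of_ringEquiv e.symm.toRingEquiv inferInstance)⟩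
  | succ r ih =>
    have := ih.1; have := ih.2
    exact csa_of_algEquiv (tpowSucc A r) (csa_tensor (CSAGal.tpow k A r) A)

instance isCentral_tpow (r : ℕ) : Algebra.IsCentral k (CSAGal.tpow k A r) := (csa_tpow A r).1
instance isSimpleRing_tpow (r : ℕ) : IsSimpleRing (CSAGal.tpow k A r) := (csa_tpow A r).2

omit [Algebra.IsCentral k A] [IsSimpleRing A] [FiniteDimensional k A]

theorem eqv_tpow_add (r s : ℕ) :
    Eqv k (CSAGal.tpow k A (r + s)) (CSAGal.tpow k A r ⊗[k] CSAGal.tpow k A s) :=
  .of_algEquiv (tpowAdd A r s).symm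

theorem eqv_tpow_succ (r : ℕ) : Eqv k (CSAGal.tpow k A (r + 1)) (CSAGal.tpow k A r ⊗[k] A) :=
  .of_algEquiv (tpowSucc A r).symm

theorem eqv_tpow_congr {B : Type w} [Ring B] [Algebra k B] (h : Eqv k A B) (r : ℕ) :
    Eqv k (CSAGal.tpow k A r) (CSAGal.tpow k B r) := by
  induction r with
  | zero => exact (Eqv.of_algEquiv (tpowZero A)).trans (Eqv.of_algEquiv (tpowZero B).symm)
  | succ r ih => exact ((eqv_tpow_succ A r).trans (ih.tensor h)).trans (eqv_tpow_succ B r).symm

theorem eqv_tpow_one_field (r : ℕ) : Eqv k (CSAGal.tpow k k r) k := by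
  induction r with
  | zero => exact .of_algEquiv (tpowZero k)
  | succ r ih => exact ((eqv_tpow_succ k r).trans ih.tensor_right).trans Eqv.tensor_self_right

theorem eqv_tpow_of_split {r : ℕ} (h : Eqv k A k) : Eqv k (CSAGal.tpow k A r) k :=
  (eqv_tpow_congr A h r).trans (eqv_tpow_one_field r)

theorem eqv_tpow_mul (r s : ℕ) :
    Eqv k (CSAGal.tpow k A (r * s)) (CSAGal.tpow k (CSAGal.tpow k A r) s) := by
  induction s with
  | zero => exact (Eqv.of_algEquiv (tpowZero A)).trans (Eqv.of_algEquiv (tpowZero _).symm)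
  | succ s ih =>
    rw [Nat.mul_succ]
    exact ((eqv_tpow_add A (r * s) r).trans ih.tensor_right).trans (eqv_tpow_succ _ s).symm

theorem eqv_tpow_tensor {B : Type w} [Ring B] [Algebra k B] (r : ℕ) :
    Eqv k (CSAGal.tpow k (A ⊗[k] B) r) (CSAGal.tpow k A r ⊗[k] CSAGal.tpow k B r) := by
  induction r with
  | zero =>
    exact (Eqv.of_algEquiv (tpowZero _)).trans <|
      Eqv.tensor_self_left.symm.trans ((Eqv.of_algEquiv (tpowZero A).symm).tensor (Eqv.of_algEquiv (tpowZero B).symm))
  | succ r ih =>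
    refine ((eqv_tpow_succ _ r).trans ih.tensor_right).trans <| Eqv.trans ?_
      ((eqv_tpow_succ A r).symm.tensor (eqv_tpow_succ B r).symm)
    exact .of_algEquiv (Algebra.TensorProduct.tensorTensorTensorComm k k k k _ _ _ _)

/-- dropping multiples of an exponent that kills the class -/
theorem eqv_tpow_mod {e : ℕ} (h : Eqv k (CSAGal.tpow k A e) k) (r q : ℕ) :
    Eqv k (CSAGal.tpow k A (r + e * q)) (CSAGal.tpow k A r) :=
  (eqv_tpow_add A r (e * q)).trans <|
    ((eqv_tpow_mul A e q).trans (eqv_tpow_of_split _ h)).tensor_left.trans Eqv.tensor_self_right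

theorem eqv_tpow_of_modEq {e : ℕ} (h : Eqv k (CSAGal.tpow k A e) k) {r s : ℕ} (hrs : r ≡ s [MOD e]) :
    Eqv k (CSAGal.tpow k A r) (CSAGal.tpow k A s) := by
  wlog hle : s ≤ r generalizing r s
  · exact (this hrs.symm (le_of_not_ge hle)).symm
  obtain ⟨q, hq⟩ := (Nat.modEq_iff_dvd' hle).mp hrs.symm
  rw [show r = s + e * q by omega]
  exact eqv_tpow_mod A h s q

theorem eqv_tpow_self {e r : ℕ} (h : Eqv k (CSAGal.tpow k A e) k) (hr : r ≡ 1 [MOD e]) :
    Eqv k (CSAGal.tpow k A r) A :=
  (eqv_tpow_of_modEq A h hr).trans (.of_algEquiv (tpowOne A))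

end Powers

end Groth.Agent.Brauer
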