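import Groth.Agent.Brauer.Minor
import Groth.Agent.Brauer.TPow
import Groth.Agent.Azumaya.Adjoint

/-!
# A module of dimension `n ^ r * C(n, r)` over the `r`-th tensor power of an algebra of degree `n`
-/

set_option autoImplicit false

universe u v

open scoped TensorProduct

namespace Groth.Agent.Brauer

variable {k : Type u} [Field k]

/-- `kron` is multilinear -/
def kronMulti (L : Type u) [Field L] [Algebra k L] (r n : ℕ) :
    MultilinearMap k (fun _ : Fin r => Matrix (Fin n) (Fin n) L)
      (Matrix (Fin r → Fin n) (Fin r → Fin n) L) where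
  toFun := kron
  map_update_add' {_} M i x y := by
    ext I J
    simp only [kron, Matrix.add_apply, Matrix.of_apply]
    rw [Finset.prod_congr rfl fun s _ => Function.apply_update (fun s (Q : Matrix (Fin n) (Fin n) L) => Q (I s) (J s)) M i (x + y) s,
      Finset.prod_congr rfl fun s _ => Function.apply_update (fun s (Q : Matrix (Fin n) (Fin n) L) => Q (I s) (J s)) M i x s,
      Finset.prod_congr rfl fun s _ => Function.apply_update (fun s (Q : Matrix (Fin n) (Fin n) L) => Q (I s) (J s)) M i y s]
    rw [Matrix.add_apply, Finset.prod_update_of_mem (Finset.mem_univ i),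
      Finset.prod_update_of_mem (Finset.mem_univ i), Finset.prod_update_of_mem (Finset.mem_univ i),
      add_mul]
  map_update_smul' {_} M i c x := by
    ext I J
    simp only [kron, Matrix.smul_apply, Matrix.of_apply]
    rw [Finset.prod_congr rfl fun s _ => Function.apply_update (fun s (Q : Matrix (Fin n) (Fin n) L) => Q (I s) (J s)) M i (c • x) s,
      Finset.prod_congr rfl fun s _ => Function.apply_update (fun s (Q : Matrix (Fin n) (Fin n) L) => Q (I s) (J s)) M i x s]
    rw [Matrix.smul_apply, Finset.prod_update_of_mem (Finset.mem_univ i),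
      Finset.prod_update_of_mem (Finset.mem_univ i), smul_mul_assoc]

theorem exists_rep (A : Type v) [Ring A] [Algebra k A] [Algebra.IsCentral k A] [IsSimpleRing A]
    [FiniteDimensional k A] {n : ℕ} (hn : Module.finrank k A = n ^ 2) (r : ℕ) :
    ∃ (M : Submodule k (CSAGal.tpow k A r)) (_ : CSAGal.tpow k A r →ₐ[k] Module.End k M),
      Module.finrank k M = n ^ r * n.choose r := by
  classical
  let L := SeparableClosure k
  obtain ⟨hc, hs⟩ : Algebra.IsCentral L (L ⊗[k] A) ∧ IsSimpleRing (L ⊗[k] A) := by
    have := Azumaya.isAzumaya_of_csa k A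
    have : IsAzumaya L (L ⊗[k] A) := Azumaya.isAzumaya_baseChange (R := k) (A := A) L
    exact Azumaya.csa_of_isAzumaya L (L ⊗[k] A)
  obtain ⟨n', hn', ⟨φ⟩⟩ := Azumaya.matrix_of_isSepClosed L (L ⊗[k] A)
  obtain rfl : n' = n := Nat.pow_left_injective two_ne_zero (by
    show n' ^ 2 = n ^ 2
    rw [← hn, ← Module.finrank_baseChange (R := L) (S := k) (M' := A), φ.toLinearEquiv.finrank_eq,
      Module.finrank_matrix, Fintype.card_fin, Module.finrank_self, mul_one, sq])
  let T := CSAGal.tpow k A r
  let ιA : A →ₐ[k] Matrix (Fin n') (Fin n') L :=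
    (φ.toAlgHom.restrictScalars k).comp Algebra.TensorProduct.includeRight
  let ρ : T →ₐ[k] Matrix (Fin r → Fin n') (Fin r → Fin n') L :=
    PiTensorProduct.liftAlgHom ((kronMulti L r n').compLinearMap fun _ => ιA.toLinearMap)
      (by
        show kron (fun _ => ιA 1) = 1
        rw [map_one]
        exact kron_one)
      (fun x y => by
        show kron (fun s => ιA (x s * y s)) = kron (fun s => ιA (x s)) * kron (fun s => ιA (y s))
        rw [← kron_mul]
        exact congrArg kron (funext fun s => map_mul ιA (x s) (y s)))
  have hρ : ∀ x : Fin r → A, ρ (PiTensorProduct.tprod k x) = kron fun s => ιA (x s) := fun x =>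
    PiTensorProduct.lift.tprod x
  let Ψ : L ⊗[k] T →ₐ[L] Matrix (Fin r → Fin n') (Fin r → Fin n') L :=
    Algebra.TensorProduct.lift (Algebra.ofId L _) ρ fun l x => Algebra.commutes l (ρ x)
  have hΨ : ∀ l x, Ψ (l ⊗ₜ[k] x) = l • ρ x := fun l x => by
    rw [Algebra.TensorProduct.lift_tmul]
    exact (Algebra.smul_def l (ρ x)).symm
  -- surjectivity
  have hspanA : ∀ M : Matrix (Fin n') (Fin n') L,
      M ∈ Submodule.span L (Set.range ιA) := fun M => by
    obtain ⟨x, rfl⟩ := φ.surjective M
    induction x using TensorProduct.induction_on with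
    | zero => rw [map_zero]; exact zero_mem _
    | add x y hx hy => rw [map_add]; exact add_mem hx hy
    | tmul l a =>
      rw [show l ⊗ₜ[k] a = l • ((1 : L) ⊗ₜ[k] a) by rw [TensorProduct.smul_tmul', smul_eq_mul, mul_one],
        map_smul]
      exact Submodule.smul_mem _ _ (Submodule.subset_span ⟨a, rfl⟩)
  have hsurj : Function.Surjective Ψ := by
    have hkron : ∀ M : Fin r → Matrix (Fin n') (Fin n') L, kron M ∈ LinearMap.range Ψ.toLinearMap := by
      suffices ∀ (S : Finset (Fin r)) (M : Fin r → Matrix (Fin n') (Fin n') L),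
          (∀ s, s ∉ S → M s ∈ Set.range ιA) → kron M ∈ LinearMap.range Ψ.toLinearMap from
        fun M => this Finset.univ M (fun s hs => absurd (Finset.mem_univ s) hs)
      intro S
      induction S using Finset.induction_on with
      | empty =>
        intro M hM
        choose a ha using fun s => hM s (Finset.notMem_empty s)
        exact ⟨1 ⊗ₜ PiTensorProduct.tprod k a, (hΨ 1 _).trans (by
          rw [one_smul, hρ]
          exact congrArg kron (funext ha))⟩
      | insert i S hi ih =>
        intro M hM
        have hmem := hspanA (M i)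
        suffices ∀ Q ∈ Submodule.span L (Set.range ιA),
            kron (Function.update M i Q) ∈ LinearMap.range Ψ.toLinearMap by
          simpa using this _ hmem
        intro Q hQ
        induction hQ using Submodule.span_induction with
        | mem Q hQ =>
          refine ih _ fun s hs => ?_
          by_cases h : s = i
          · subst h; simpa using hQ
          · rw [Function.update_of_ne h]; exact hM s (by simp [h, hs])
        | zero => rw [show kron (Function.update M i 0) = 0 from
            (kronMulti (k := k) L r n').map_update_zero M i]; exact zero_mem _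
        | add P Q _ _ hP hQ => rw [show kron (Function.update M i (P + Q)) = _ from
            (kronMulti (k := k) L r n').map_update_add M i P Q]; exact add_mem hP hQ
        | smul c Q _ hQ => rw [show kron (Function.update M i (c • Q)) = _ from
            (kronMulti (k := L) L r n').map_update_smul M i c Q]; exact Submodule.smul_mem _ c hQ
    intro X
    have hX : X ∈ LinearMap.range Ψ.toLinearMap := by
      rw [Matrix.matrix_eq_sum_single X]
      refine sum_mem fun I _ => sum_mem fun J _ => ?_
      rw [show Matrix.single I J (X I J) = X I J • Matrix.single I J (1 : L) by simp]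
      refine Submodule.smul_mem _ _ ?_
      convert hkron (fun s => Matrix.single (I s) (J s) 1) using 1
      ext P Q
      simp only [kron, Matrix.of_apply, Matrix.single_apply, Fintype.prod_boole]
      simp [funext_iff, forall_and]
    exact hX
  have hdim : Module.finrank L (L ⊗[k] T) =
      Module.finrank L (Matrix (Fin r → Fin n') (Fin r → Fin n') L) := by
    rw [Module.finrank_baseChange, finrank_tpow, hn, Module.finrank_matrix, Module.finrank_self]
    simp [← pow_mul, ← pow_add, two_mul, mul_comm]
    ring
  have hbij : Function.Bijective Ψ := ⟨(LinearMap.injective_iff_surjective_of_finrank_eq_finrank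
    (f := Ψ.toLinearMap) hdim).mpr hsurj, hsurj⟩
  -- descent of the antisymmetrisation matrix
  obtain ⟨x, hx⟩ := hbij.2 (altMatrix L r n')
  let b := Module.finBasis k T
  let bL := Algebra.TensorProduct.basis L b
  have hfix : ∀ (σ : L ≃ₐ[k] L) i, σ (bL.repr x i) = bL.repr x i := by
    intro σ
    let σm : Matrix (Fin n') (Fin n') L →ₐ[k] Matrix (Fin n') (Fin n') L := σ.toAlgHom.mapMatrix
    let ψ : L ⊗[k] A →ₐ[L] Matrix (Fin n') (Fin n') L :=
      Algebra.TensorProduct.lift (Algebra.ofId L _) (σm.comp ιA) fun l y => Algebra.commutes l _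
    obtain ⟨g, hg⟩ := Azumaya.skolemNoether L (Matrix (Fin n') (Fin n') L) (L ⊗[k] A) φ.toAlgHom ψ
    have hga : ∀ a, σm (ιA a) = (g : Matrix (Fin n') (Fin n') L) * ιA a * (g⁻¹ : (Matrix (Fin n') (Fin n') L)ˣ) := fun a => by
      have := hg ((1 : L) ⊗ₜ[k] a)
      rw [show ψ ((1 : L) ⊗ₜ[k] a) = σm (ιA a) by
        rw [Algebra.TensorProduct.lift_tmul, map_one, one_mul]; rfl] at this
      exact this
    let G := kron fun _ : Fin r => (g : Matrix (Fin n') (Fin n') L)
    let G' := kron fun _ : Fin r => ((g⁻¹ : (Matrix (Fin n') (Fin n') L)ˣ) : Matrix (Fin n') (Fin n') L)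
    have hGG' : G * G' = 1 := by
      rw [← kron_mul, show ((fun _ : Fin r => (g : Matrix (Fin n') (Fin n') L)) * fun _ : Fin r =>
        ((g⁻¹ : (Matrix (Fin n') (Fin n') L)ˣ) : Matrix (Fin n') (Fin n') L)) = 1 from
          funext fun _ => g.mul_inv, kron_one]
    have hG'G : G' * G = 1 := by
      rw [← kron_mul, show ((fun _ : Fin r => ((g⁻¹ : (Matrix (Fin n') (Fin n') L)ˣ) : Matrix (Fin n') (Fin n') L)) *
        fun _ : Fin r => (g : Matrix (Fin n') (Fin n') L)) = 1 from
          funext fun _ => g.inv_mul, kron_one]
    have hsig : ∀ t : T, (ρ t).map σ = G * ρ t * G' := by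
      intro t
      induction t using PiTensorProduct.induction_on with
      | add p q hp hq =>
        rw [map_add, mul_add, add_mul, ← hp, ← hq]
        exact Matrix.map_add _ (map_add σ) _ _
      | smul_tprod c y =>
        rw [map_smul, hρ, mul_smul_comm, smul_mul_assoc, ← kron_mul, ← kron_mul]
        have h1 : (c • kron fun s => ιA (y s)).map σ = c • (kron fun s => σm (ιA (y s))) := by
          ext I J
          simp only [Matrix.map_apply, Matrix.smul_apply, map_smul, kron, Matrix.of_apply, map_prod]
          rfl
        rw [h1]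
        exact congrArg (c • ·) (congrArg kron (funext fun s => hga (y s)))
    have hAlt : G' * altMatrix L r n' * G = altMatrix L r n' := by
      rw [mul_assoc, ← kron_comm_alt, ← mul_assoc, hG'G, one_mul]
    let x' : L ⊗[k] T := ∑ i, σ (bL.repr x i) • bL i
    have hx' : Ψ x' = Ψ x := by
      have hexp : altMatrix L r n' = ∑ i, bL.repr x i • ρ (b i) := by
        conv_lhs => rw [← hx, ← bL.sum_repr x]
        simp only [map_sum, map_smul, bL, Algebra.TensorProduct.basis_apply, hΨ, one_smul]
      have hmap : altMatrix L r n' = ∑ i, σ (bL.repr x i) • (G * ρ (b i) * G') := by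
        conv_lhs => rw [← map_altMatrix (L := L) (L' := L) (r := r) (n := n') (σ : L →+* L), hexp]
        ext I J
        simp only [Matrix.map_apply, Matrix.sum_apply, Matrix.smul_apply, map_sum, smul_eq_mul,
          map_mul, ← hsig]
        rfl
      rw [hx]
      conv_rhs => rw [← hAlt, hmap, Finset.mul_sum, Finset.sum_mul]
      simp only [x', map_sum, map_smul, bL, Algebra.TensorProduct.basis_apply, hΨ, one_smul]
      refine Finset.sum_congr rfl fun i _ => ?_
      rw [mul_smul_comm, smul_mul_assoc]
      congr 1
      simp only [← mul_assoc, hG'G, one_mul]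
      rw [mul_assoc, hG'G, mul_one]
    intro i
    have := congrArg (fun z => bL.repr z i) (hbij.1 hx')
    simp only [x', bL.repr_sum_self] at this
    exact this
  have hk : ∀ i, ∃ c : k, algebraMap k L c = bL.repr x i := fun i =>
    IntermediateField.mem_bot.mp ((InfiniteGalois.mem_bot_iff_fixed _).mpr fun σ => hfix σ i)
  choose c hc' using hk
  let e : T := ∑ i, c i • b i
  have he : ρ e = altMatrix L r n' := by
    conv_rhs => rw [← hx, ← bL.sum_repr x]
    simp only [e, map_sum, map_smul, bL, Algebra.TensorProduct.basis_apply, hΨ, one_smul]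
    refine Finset.sum_congr rfl fun i _ => ?_
    erw [← hc' i]
    exact (algebraMap_smul L (c i) (ρ (b i))).symm
  -- the module
  let f : T →ₗ[k] T := LinearMap.mulRight k e
  let M := LinearMap.range f
  have hstab : ∀ t : T, ∀ m ∈ M, t * m ∈ M := fun t m ⟨y, hy⟩ =>
    ⟨t * y, by rw [← hy]; exact mul_assoc t y e⟩
  refine ⟨M, AlgHom.ofLinearMap
    { toFun := fun t => (LinearMap.mulLeft k t).restrict (hstab t)
      map_add' := fun t t' => LinearMap.ext fun m => Subtype.ext (add_mul t t' (m : T))
      map_smul' := fun r t => LinearMap.ext fun m => Subtype.ext (smul_mul_assoc r t (m : T)) }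
    (LinearMap.ext fun m => Subtype.ext (one_mul (m : T)))
    (fun t t' => LinearMap.ext fun m => Subtype.ext (mul_assoc t t' (m : T))), ?_⟩
  -- dimension
  let EΨ : (L ⊗[k] T) ≃ₗ[L] Matrix (Fin r → Fin n') (Fin r → Fin n') L :=
    LinearEquiv.ofBijective Ψ.toLinearMap hbij
  have hcomm : ∀ z, EΨ (f.baseChange L z) = LinearMap.mulRight L (altMatrix L r n') (EΨ z) := by
    intro z
    induction z using TensorProduct.induction_on with
    | zero => simp
    | add p q hp hq => simp only [map_add, hp, hq]
    | tmul l t =>
      show Ψ (l ⊗ₜ (t * e)) = Ψ (l ⊗ₜ t) * altMatrix L r n'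
      rw [hΨ, hΨ, map_mul, he, smul_mul_assoc]
  have hker : Module.finrank k (LinearMap.ker f) =
      Module.finrank L (LinearMap.ker (LinearMap.mulRight L (altMatrix L r n'))) := by
    rw [Azumaya.finrank_ker_baseChange (k := k) (A := T) L f]
    refine (EΨ.submoduleMap (LinearMap.ker (f.baseChange L))).finrank_eq.trans ?_
    refine (LinearEquiv.ofEq _ _ ?_).finrank_eq
    ext z
    simp only [Submodule.mem_map, LinearMap.mem_ker]
    constructor
    · rintro ⟨w, hw, rfl⟩
      show LinearMap.mulRight L _ (EΨ w) = 0
      rw [← hcomm, hw, map_zero]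
    · intro hz
      refine ⟨EΨ.symm z, EΨ.injective ?_, EΨ.apply_symm_apply z⟩
      rw [hcomm, EΨ.apply_symm_apply, hz, map_zero]
  have h1 := LinearMap.finrank_range_add_finrank_ker f
  have h2 := LinearMap.finrank_range_add_finrank_ker (LinearMap.mulRight L (altMatrix L r n'))
  rw [finrank_range_mulRight, ← hdim, Module.finrank_baseChange, ← h1, hker] at h2
  exact (Nat.add_right_cancel h2).symm

end Groth.Agent.Brauer
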