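import Groth.Agent.Azumaya.Fibre
import Groth.Agent.Brauer.PiAlg

/-! The index of a central simple algebra through matrix representations. -/

set_option autoImplicit false

universe u v w w'

open scoped TensorProduct

namespace Groth.Agent.Brauer

open Groth.Agent.Azumaya

/-- Central simple algebras of finite dimension. -/
structure IsCSA (k : Type u) [Field k] (T : Type v) [Ring T] [Algebra k T] : Prop where
  central : Algebra.IsCentral k T
  simple : IsSimpleRing T
  finite : FiniteDimensional k T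

variable {k : Type u} [Field k]

theorem IsCSA.of_algEquiv {T : Type v} [Ring T] [Algebra k T] {S : Type w} [Ring S] [Algebra k S]
    (h : IsCSA k T) (e : T ≃ₐ[k] S) : IsCSA k S :=
  ⟨⟨fun x hx => by
      have := h.central
      have hx' : e.symm x ∈ Subalgebra.center k T := Subalgebra.mem_center_iff.2 fun b => by
        apply e.injective
        rw [map_mul, map_mul, AlgEquiv.apply_symm_apply]
        exact Subalgebra.mem_center_iff.1 hx (e b)
      obtain ⟨r, hr⟩ := (Algebra.IsCentral.mem_center_iff (K := k)).1 hx'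
      exact Algebra.mem_bot.2 ⟨r, by rw [← e.commutes r, ← hr, AlgEquiv.apply_symm_apply]⟩⟩,
    have := h.simple; IsSimpleRing.of_ringEquiv e.toRingEquiv h.simple,
    have := h.finite; Module.Finite.equiv e.toLinearEquiv⟩

theorem IsCSA.self : IsCSA k k :=
  ⟨inferInstance, inferInstance, inferInstance⟩

theorem IsCSA.tensor {T : Type v} [Ring T] [Algebra k T] {S : Type w} [Ring S] [Algebra k S]
    (h : IsCSA k T) (h' : IsCSA k S) : IsCSA k (T ⊗[k] S) := by
  haveI := h.central; haveI := h.simple; haveI := h.finite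
  haveI := h'.central; haveI := h'.simple; haveI := h'.finite
  exact ⟨isCentral_tensor k T S, isSimpleRing_tensor k T S, inferInstance⟩

theorem IsCSA.baseChange {T : Type v} [Ring T] [Algebra k T] (h : IsCSA k T)
    (L : Type w) [Field L] [Algebra k L] : IsCSA L (L ⊗[k] T) := by
  haveI := h.central; haveI := h.simple; haveI := h.finite
  haveI := isAzumaya_of_csa k T
  haveI : IsAzumaya L (L ⊗[k] T) := isAzumaya_baseChange (R := k) (A := T) L
  obtain ⟨h1, h2⟩ := csa_of_isAzumaya L (L ⊗[k] T)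
  exact ⟨h1, h2, inferInstance⟩

theorem IsCSA.pw {T : Type v} [Ring T] [Algebra k T] (h : IsCSA k T) : ∀ e : ℕ, IsCSA k (Brauer.pw k T e)
  | 0 => IsCSA.self.of_algEquiv (pwZero k T).symm
  | e + 1 => ((IsCSA.pw h e).tensor h).of_algEquiv (pwSucc k T e).symm

theorem finrank_pw (T : Type v) [Ring T] [Algebra k T] :
    ∀ e : ℕ, Module.finrank k (Brauer.pw k T e) = Module.finrank k T ^ e
  | 0 => by rw [(pwZero k T).toLinearEquiv.finrank_eq, Module.finrank_self, pow_zero]
  | e + 1 => by
    rw [(pwSucc k T e).toLinearEquiv.finrank_eq, Module.finrank_tensorProduct, finrank_pw T e, pow_succ]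

theorem IsCSA.nontrivial {T : Type v} [Ring T] [Algebra k T] (h : IsCSA k T) : Nontrivial T :=
  have := h.simple; inferInstance

theorem IsCSA.finrank_pos {T : Type v} [Ring T] [Algebra k T] (h : IsCSA k T) :
    0 < Module.finrank k T :=
  have := h.finite; have := h.nontrivial; Module.finrank_pos

/-- The degree. -/
theorem IsCSA.exists_degree {T : Type v} [Ring T] [Algebra k T] (h : IsCSA k T) :
    ∃ n, 0 < n ∧ Module.finrank k T = n * n := by
  obtain ⟨hc, hs, hf⟩ := h.baseChange (SeparableClosure k)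
  obtain ⟨n, hn, ⟨e⟩⟩ := matrix_of_isSepClosed (SeparableClosure k) (SeparableClosure k ⊗[k] T)
  refine ⟨n, Nat.pos_of_ne_zero (NeZero.ne n), ?_⟩
  have := e.toLinearEquiv.finrank_eq
  rwa [Module.finrank_baseChange, Module.finrank_matrix, Module.finrank_self, mul_one, Fintype.card_fin] at this

/-- `T` has a representation of dimension `deg T * n`. -/
def IndDvd (k : Type u) [Field k] (T : Type v) [Ring T] [Algebra k T] (n : ℕ) : Prop :=
  ∃ (N : ℕ) (_ : T →ₐ[k] Matrix (Fin N) (Fin N) k), 0 < N ∧ N * N = Module.finrank k T * (n * n)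

variable {T : Type v} [Ring T] [Algebra k T] {S : Type w} [Ring S] [Algebra k S]

theorem IndDvd.of_algEquiv {n : ℕ} (h : IndDvd k T n) (e : T ≃ₐ[k] S) : IndDvd k S n := by
  obtain ⟨N, f, h0, hN⟩ := h
  exact ⟨N, f.comp e.symm.toAlgHom, h0, by rwa [← e.toLinearEquiv.finrank_eq]⟩

theorem indDvd_congr {n : ℕ} (e : T ≃ₐ[k] S) : IndDvd k T n ↔ IndDvd k S n :=
  ⟨fun h => h.of_algEquiv e, fun h => h.of_algEquiv e.symm⟩

theorem IndDvd.pos {n : ℕ} (h : IndDvd k T n) : 0 < n := by
  obtain ⟨N, f, h0, hN⟩ := h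
  rcases Nat.eq_zero_or_pos n with rfl | h
  · simp at hN; omega
  · exact h

theorem IndDvd.tensor {n m : ℕ} (h : IndDvd k T n) (h' : IndDvd k S m) :
    IndDvd k (T ⊗[k] S) (n * m) := by
  obtain ⟨N, f, h0, hN⟩ := h
  obtain ⟨M, g, h0', hM⟩ := h'
  refine ⟨N * M, ((Matrix.reindexAlgEquiv k k finProdFinEquiv).toAlgHom.comp
    (Matrix.kroneckerAlgEquiv (Fin N) (Fin M) k).toAlgHom).comp (Algebra.TensorProduct.map f g),
    Nat.mul_pos h0 h0', ?_⟩
  rw [Module.finrank_tensorProduct, mul_mul_mul_comm, hN, hM]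
  ring

theorem indDvd_self : IndDvd k k 1 :=
  ⟨1, Algebra.ofId k _, one_pos, by rw [Module.finrank_self]⟩

theorem IndDvd.mul_right {n : ℕ} (h : IndDvd k T n) {j : ℕ} (hj : 0 < j) : IndDvd k T (n * j) := by
  have hj' : IndDvd k k j := ⟨j, Algebra.ofId k _, hj, by rw [Module.finrank_self, one_mul]⟩
  exact (h.tensor hj').of_algEquiv (Algebra.TensorProduct.rid k k T)

theorem indDvd_matrix (s : ℕ) (hs : 0 < s) : IndDvd k (Matrix (Fin s) (Fin s) k) 1 :=
  ⟨s, AlgHom.id k _, hs, by rw [Module.finrank_matrix, Module.finrank_self, mul_one, mul_one, mul_one,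
    Fintype.card_fin]⟩

theorem IndDvd.pow {n : ℕ} (h : IndDvd k T n) : ∀ e : ℕ, IndDvd k (Brauer.pw k T e) (n ^ e)
  | 0 => indDvd_self.of_algEquiv (pwZero k T).symm
  | e + 1 => by
    rw [pow_succ]
    exact ((h.pow e).tensor h).of_algEquiv (pwSucc k T e).symm

theorem IndDvd.baseChange {n : ℕ} (h : IndDvd k T n) (L : Type w') [Field L] [Algebra k L] :
    IndDvd L (L ⊗[k] T) n := by
  obtain ⟨N, f, h0, hN⟩ := h
  refine ⟨N, Algebra.TensorProduct.lift (Algebra.ofId L _) ((Algebra.ofId k L).mapMatrix.comp f)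
    (fun x y => Algebra.commutes x _), h0, ?_⟩
  rwa [Module.finrank_baseChange]

theorem IndDvd.restrict {n : ℕ} (L : Type w') [Field L] [Algebra k L] [FiniteDimensional k L]
    (h : IndDvd L (L ⊗[k] T) n) : IndDvd k T (n * Module.finrank k L) := by
  obtain ⟨N, f, h0, hN⟩ := h
  let l := Module.finrank k L
  let r : L →ₐ[k] Matrix (Fin l) (Fin l) k :=
    (algEquivMatrix (Module.finBasis k L)).toAlgHom.comp (Algebra.lmul k L)
  refine ⟨N * l, ((Matrix.reindexAlgEquiv k k finProdFinEquiv).toAlgHom.comp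
    (Matrix.compAlgEquiv (Fin N) (Fin l) k k).toAlgHom).comp
      (r.mapMatrix.comp ((f.restrictScalars k).comp Algebra.TensorProduct.includeRight)),
    Nat.mul_pos h0 Module.finrank_pos, ?_⟩
  rw [Module.finrank_baseChange] at hN
  rw [mul_mul_mul_comm, hN]
  ring

/-- A representation of a matrix algebra comes from one of the coefficient algebra. -/
theorem exists_rep_of_matrix {m : ℕ} [NeZero m] (V : Type u) [AddCommGroup V] [Module k V]
    [FiniteDimensional k V] (f : Matrix (Fin m) (Fin m) S →ₐ[k] Module.End k V) :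
    ∃ (W : Type u) (_ : AddCommGroup W) (_ : Module k W) (_ : FiniteDimensional k W)
      (_ : S →ₐ[k] Module.End k W), Module.finrank k V = m * Module.finrank k W := by
  classical
  let E : Fin m → Fin m → Module.End k V := fun i j => f (Matrix.single i j 1)
  have hE : ∀ i j i' j', E i j * E i' j' = if j = i' then E i j' else 0 := fun i j i' j' => by
    show f _ * f _ = _
    rw [← map_mul]
    split_ifs with h
    · subst h; simp [E]
    · rw [Matrix.single_mul_single_of_ne _ _ _ _ h, map_zero]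
  have hE1 : ∀ x, ∑ i, E i i x = x := fun x => by
    rw [← LinearMap.sum_apply, ← map_sum,
      show (∑ i, Matrix.single i i (1 : S)) = 1 from Matrix.ext fun a b => by
        simp [Matrix.sum_apply, Matrix.single, Matrix.one_apply, ite_and, eq_comm], map_one,
      Module.End.one_apply]
  have hcomm : ∀ (x : S) (i j : Fin m), Commute (f (Matrix.scalar (Fin m) x)) (E i j) := fun x i j =>
    Commute.map (by
      show _ * _ = _ * _
      ext a b
      simp [Matrix.scalar, Matrix.single, ite_and]) f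
  let W := LinearMap.range (E 0 0)
  have hW : ∀ w : V, w ∈ W → E 0 0 w = w := fun w ⟨v, hv⟩ => by
    rw [← hv, ← Module.End.mul_apply, hE, if_pos rfl]
  have hmaps : ∀ (x : S) (w : V), w ∈ W → f (Matrix.scalar (Fin m) x) w ∈ W := fun x w hw => by
    refine ⟨f (Matrix.scalar (Fin m) x) w, ?_⟩
    conv_rhs => rw [← hW w hw]
    exact (LinearMap.congr_fun (hcomm x 0 0).eq w).symm
  have hrest : ∀ x : S, ∀ w ∈ W, f (Matrix.scalar (Fin m) x) w ∈ W := hmaps
  let g : S →ₐ[k] Module.End k W :=
    { toFun := fun x => (f (Matrix.scalar (Fin m) x)).restrict (hrest x)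
      map_one' := by ext w; simp
      map_mul' := fun x y => LinearMap.ext fun w => Subtype.ext <| by
        show f (Matrix.scalar (Fin m) (x * y)) w = _
        rw [map_mul, map_mul]
        rfl
      map_zero' := by ext w; simp
      map_add' := fun x y => LinearMap.ext fun w => Subtype.ext <| by
        show f (Matrix.scalar (Fin m) (x + y)) w = _
        rw [map_add, map_add]
        rfl
      commutes' := fun r => by
        refine LinearMap.ext fun w => Subtype.ext ?_
        show f (Matrix.scalar (Fin m) (algebraMap k S r)) w = r • (w : V)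
        rw [show Matrix.scalar (Fin m) (algebraMap k S r) = algebraMap k _ r from rfl, f.commutes]
        rfl }
  let e : V ≃ₗ[k] (Fin m → W) :=
    { toFun := fun x i => ⟨E 0 i x, ⟨E 0 i x, by rw [← Module.End.mul_apply, hE, if_pos rfl]⟩⟩
      map_add' := fun x y => funext fun i => Subtype.ext (map_add (E 0 i) x y)
      map_smul' := fun c x => funext fun i => Subtype.ext (map_smul (E 0 i) c x)
      invFun := fun w => ∑ i, E i 0 (w i : V)
      left_inv := fun x => by
        show ∑ i, E i 0 (E 0 i x) = x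
        conv_rhs => rw [← hE1 x]
        exact Finset.sum_congr rfl fun i _ => by rw [← Module.End.mul_apply, hE, if_pos rfl]
      right_inv := fun w => funext fun j => Subtype.ext <| by
        show E 0 j (∑ i, E i 0 (w i : V)) = w j
        rw [map_sum, Finset.sum_eq_single j]
        · rw [← Module.End.mul_apply, hE, if_pos rfl, hW _ (w j).2]
        · intro i _ hij
          rw [← Module.End.mul_apply, hE, if_neg (Ne.symm hij), LinearMap.zero_apply]
        · simp }
  refine ⟨W, inferInstance, inferInstance, inferInstance, g, ?_⟩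
  rw [e.finrank_eq, Module.finrank_pi_fintype, Finset.sum_const, Finset.card_univ, Fintype.card_fin,
    smul_eq_mul]

theorem exists_matrix_rep {W : Type u} [AddCommGroup W] [Module k W] [FiniteDimensional k W]
    (g : S →ₐ[k] Module.End k W) :
    ∃ _ : S →ₐ[k] Matrix (Fin (Module.finrank k W)) (Fin (Module.finrank k W)) k, True :=
  ⟨(algEquivMatrix (Module.finBasis k W)).toAlgHom.comp g, trivial⟩

theorem indDvd_matrix_iff {m n : ℕ} [NeZero m] : IndDvd k (Matrix (Fin m) (Fin m) S) n ↔ IndDvd k S n := by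
  have hm : 0 < m := Nat.pos_of_ne_zero (NeZero.ne m)
  have hdim : Module.finrank k (Matrix (Fin m) (Fin m) S) = m * m * Module.finrank k S := by
    rw [Module.finrank_matrix, Fintype.card_fin]
  constructor
  · rintro ⟨N, f, h0, hN⟩
    obtain ⟨W, _, _, _, g, hW⟩ := exists_rep_of_matrix (S := S) (Fin N → k)
      (Matrix.toLinAlgEquiv'.toAlgHom.comp f)
    obtain ⟨g', -⟩ := exists_matrix_rep g
    rw [Module.finrank_fin_fun] at hW
    refine ⟨_, g', Nat.pos_of_ne_zero fun h => by rw [h, mul_zero] at hW; omega, ?_⟩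
    apply Nat.eq_of_mul_eq_mul_left (Nat.mul_pos hm hm)
    rw [← mul_mul_mul_comm, ← hW, hN, hdim, mul_assoc]
  · rintro ⟨N, f, h0, hN⟩
    refine ⟨m * N, ((Matrix.reindexAlgEquiv k k finProdFinEquiv).toAlgHom.comp
      (Matrix.compAlgEquiv (Fin m) (Fin N) k k).toAlgHom).comp f.mapMatrix, Nat.mul_pos hm h0, ?_⟩
    rw [hdim, mul_mul_mul_comm, hN]
    ring

/-- The index of a division algebra divides every admissible multiplier. -/
theorem exists_index (h : IsCSA k T) :
    ∃ d, 0 < d ∧ (∀ n, IndDvd k T n ↔ 0 < n ∧ d ∣ n) ∧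
      ∃ (m : ℕ) (D : Type v) (_ : DivisionRing D) (_ : Algebra k D),
        0 < m ∧ IsCSA k D ∧ Module.finrank k D = d ^ 2 ∧ Nonempty (T ≃ₐ[k] Matrix (Fin m) (Fin m) D) := by
  haveI := h.central; haveI := h.simple; haveI := h.finite
  haveI := IsArtinianRing.of_finite k T
  obtain ⟨m, hm, D, _, _, hfin, ⟨e⟩⟩ := IsSimpleRing.exists_algEquiv_matrix_divisionRing_finite k T
  have hDc : Algebra.IsCentral k D := by
    have : Algebra.IsCentral k (Matrix (Fin m) (Fin m) D) := Algebra.IsCentral.of_algEquiv k T _ e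
    refine ⟨fun d hd => ?_⟩
    have hmem : Matrix.scalar (Fin m) d ∈ Subalgebra.center k (Matrix (Fin m) (Fin m) D) :=
      Subalgebra.mem_center_iff.2 fun M => (Matrix.scalar_commute d
        (fun r => (Subalgebra.mem_center_iff.1 hd r).symm) M).eq.symm
    obtain ⟨r, hr⟩ := Algebra.mem_bot.1 (Algebra.IsCentral.out hmem)
    refine Algebra.mem_bot.2 ⟨r, ?_⟩
    have := congrFun (congrFun hr 0) 0
    simpa [Matrix.algebraMap_matrix_apply, Matrix.scalar] using this
  have hD : IsCSA k D := ⟨hDc, inferInstance, hfin⟩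
  obtain ⟨d, hd0, hd⟩ := hD.exists_degree
  refine ⟨d, hd0, fun n => (indDvd_congr e).trans (indDvd_matrix_iff.trans ⟨fun hn => ⟨hn.pos, ?_⟩, ?_⟩),
    m, D, inferInstance, inferInstance, Nat.pos_of_ne_zero (NeZero.ne m), hD, by rw [hd, sq], ⟨e⟩⟩
  · obtain ⟨N, f, h0, hN⟩ := hn
    have hNdn : N = d * n := by
      rw [hd, ← mul_mul_mul_comm] at hN
      exact Nat.mul_self_inj.1 hN
    letI : Module D (Fin N → k) :=
      Module.compHom _ (Matrix.toLinAlgEquiv'.toAlgHom.comp f).toRingHom
    haveI : IsScalarTower k D (Fin N → k) := ⟨fun r x v => by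
      show (Matrix.toLinAlgEquiv'.toAlgHom.comp f) (r • x) v = r • (Matrix.toLinAlgEquiv'.toAlgHom.comp f) x v
      rw [map_smul]
      rfl⟩
    have hmul := Module.finrank_mul_finrank k D (Fin N → k)
    rw [Module.finrank_fin_fun, hd] at hmul
    exact ⟨_, (Nat.eq_of_mul_eq_mul_left hd0 (((mul_assoc _ _ _).symm.trans hmul).trans hNdn)).symm⟩
  · rintro ⟨hn0, j, rfl⟩
    refine IndDvd.mul_right ?_ (pos_of_mul_pos_right hn0 (Nat.zero_le _))
    refine ⟨Module.finrank k D, (algEquivMatrix (Module.finBasis k D)).toAlgHom.comp (Algebra.lmul k D),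
      by rw [hd]; exact Nat.mul_pos hd0 hd0, by rw [hd]⟩

theorem IndDvd.dvd_trans (h : IsCSA k T) {n n' : ℕ} (hn : IndDvd k T n) (h' : n ∣ n') (h0 : 0 < n') :
    IndDvd k T n' := by
  obtain ⟨j, rfl⟩ := h'
  exact hn.mul_right (pos_of_mul_pos_right h0 (Nat.zero_le _))

theorem IndDvd.gcd (h : IsCSA k T) {n n' : ℕ} (hn : IndDvd k T n) (hn' : IndDvd k T n') :
    IndDvd k T (Nat.gcd n n') := by
  obtain ⟨d, hd0, hiff, -⟩ := exists_index h
  exact (hiff _).2 ⟨Nat.gcd_pos_of_pos_left _ hn.pos, Nat.dvd_gcd ((hiff n).1 hn).2 ((hiff n').1 hn').2⟩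

/-- An algebra is split when its index is one. -/
theorem indDvd_one_iff (h : IsCSA k T) :
    IndDvd k T 1 ↔ ∃ n, 0 < n ∧ Nonempty (T ≃ₐ[k] Matrix (Fin n) (Fin n) k) := by
  haveI := h.simple; haveI := h.finite
  constructor
  · rintro ⟨N, f, h0, hN⟩
    haveI : NeZero N := ⟨h0.ne'⟩
    have hinj : Function.Injective f := RingHom.injective f.toRingHom
    rw [mul_one, mul_one] at hN
    have hdim : Module.finrank k T = Module.finrank k (Matrix (Fin N) (Fin N) k) := by
      rw [← hN, Module.finrank_matrix, Module.finrank_self, mul_one, Fintype.card_fin]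
    exact ⟨N, h0, ⟨AlgEquiv.ofBijective f
      ⟨hinj, (LinearMap.injective_iff_surjective_of_finrank_eq_finrank hdim (f := f.toLinearMap)).1 hinj⟩⟩⟩
  · rintro ⟨n, hn, ⟨e⟩⟩
    exact (indDvd_matrix n hn).of_algEquiv e.symm

theorem indDvd_tensor_split {n : ℕ} (hS : IsCSA k S) (h1 : IndDvd k S 1) :
    IndDvd k (T ⊗[k] S) n ↔ IndDvd k T n := by
  obtain ⟨s, hs, ⟨e⟩⟩ := (indDvd_one_iff hS).1 h1
  haveI : NeZero s := ⟨hs.ne'⟩
  rw [indDvd_congr ((Algebra.TensorProduct.congr AlgEquiv.refl e).trans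
    (matrixEquivTensor (Fin s) k T).symm)]
  exact indDvd_matrix_iff

theorem indDvd_pw_add {a b n : ℕ} (hT : IsCSA k T) (ha : IndDvd k (Brauer.pw k T a) 1) :
    IndDvd k (Brauer.pw k T (b + a)) n ↔ IndDvd k (Brauer.pw k T b) n := by
  rw [indDvd_congr (pwAdd k T b a)]
  exact indDvd_tensor_split (hT.pw a) ha

theorem indDvd_pw_mul {a n : ℕ} (e : ℕ) :
    IndDvd k (Brauer.pw k T (a * e)) n ↔ IndDvd k (Brauer.pw k (Brauer.pw k T a) e) n := by
  obtain ⟨f⟩ := pwMul k T a e
  exact indDvd_congr f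

theorem indDvd_pw_split_mul {a : ℕ} (ha : IndDvd k (Brauer.pw k T a) 1) (j : ℕ) :
    IndDvd k (Brauer.pw k T (a * j)) 1 :=
  (indDvd_pw_mul j).2 (by simpa using ha.pow j)

theorem indDvd_pw_mod {a b n : ℕ} (hT : IsCSA k T) (ha : IndDvd k (Brauer.pw k T a) 1) :
    IndDvd k (Brauer.pw k T b) n ↔ IndDvd k (Brauer.pw k T (b % a)) n := by
  conv_lhs => rw [← Nat.mod_add_div b a]
  exact indDvd_pw_add hT (indDvd_pw_split_mul ha _)

theorem dvd_of_period {e b : ℕ} (hT : IsCSA k T) (he : 0 < e) (h1 : IndDvd k (Brauer.pw k T e) 1)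
    (hmin : ∀ e', 0 < e' → e' < e → ¬ IndDvd k (Brauer.pw k T e') 1)
    (hb : IndDvd k (Brauer.pw k T b) 1) : e ∣ b := by
  rw [indDvd_pw_mod hT h1] at hb
  rcases Nat.eq_zero_or_pos (b % e) with h | h
  · exact Nat.dvd_of_mod_eq_zero h
  · exact absurd hb (hmin _ h (Nat.mod_lt _ he))

end Groth.Agent.Brauer
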