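import Mathlib

/-!
# The antisymmetrisation matrix on tensor powers, via minors
-/

set_option autoImplicit false

universe u

open Matrix Finset

namespace Groth.Agent.Brauer

variable {L : Type u} [Field L] {r n : ℕ}

/-- tensor product of `r` matrices -/
def kron (M : Fin r → Matrix (Fin n) (Fin n) L) : Matrix (Fin r → Fin n) (Fin r → Fin n) L :=
  Matrix.of fun I J => ∏ s, M s (I s) (J s)

theorem kron_mul (M N : Fin r → Matrix (Fin n) (Fin n) L) : kron (M * N) = kron M * kron N := by
  ext I K
  simp only [kron, Matrix.of_apply, Pi.mul_apply, Matrix.mul_apply, ← Finset.prod_mul_distrib]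
  exact Fintype.prod_sum fun s j => M s (I s) j * N s j (K s)

theorem kron_one : kron (1 : Fin r → Matrix (Fin n) (Fin n) L) = 1 := by
  ext I J
  simp only [kron, Matrix.of_apply, Pi.one_apply]
  rcases eq_or_ne I J with rfl | h
  · simp
  · obtain ⟨s, hs⟩ := Function.ne_iff.mp h
    rw [Matrix.one_apply_ne h]
    exact Finset.prod_eq_zero (Finset.mem_univ s) (Matrix.one_apply_ne hs)

/-- the antisymmetrisation matrix -/
def altMatrix (L : Type u) [Field L] (r n : ℕ) : Matrix (Fin r → Fin n) (Fin r → Fin n) L :=
  Matrix.of fun I J => ((1 : Matrix (Fin n) (Fin n) L).submatrix I J).det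

theorem altMatrix_transpose : (altMatrix L r n)ᵀ = altMatrix L r n := by
  ext I J
  simp only [altMatrix, Matrix.transpose_apply, Matrix.of_apply]
  rw [← Matrix.det_transpose, Matrix.transpose_submatrix, Matrix.transpose_one]

theorem kron_mul_alt (g : Matrix (Fin n) (Fin n) L) :
    kron (fun _ : Fin r => g) * altMatrix L r n = Matrix.of fun I K => (g.submatrix I K).det := by
  ext I K
  simp only [Matrix.mul_apply, kron, altMatrix, Matrix.of_apply]
  let f := (Matrix.detRowAlternating : (Fin r → L) [⋀^Fin r]→ₗ[L] L).toMultilinearMap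
  have h : g.submatrix I K = Matrix.of fun s => ∑ j, g (I s) j • fun b => (1 : Matrix (Fin n) (Fin n) L) j (K b) := by
    ext s b
    simp [Matrix.one_apply]
  rw [h]
  show _ = f fun s => ∑ j, g (I s) j • fun b => (1 : Matrix (Fin n) (Fin n) L) j (K b)
  rw [f.map_sum]
  refine Finset.sum_congr rfl fun J _ => ?_
  rw [f.map_smul_univ, smul_eq_mul]
  rfl

theorem alt_mul_kron (g : Matrix (Fin n) (Fin n) L) :
    altMatrix L r n * kron (fun _ : Fin r => g) = Matrix.of fun I K => (g.submatrix I K).det := by
  have h : (kron (fun _ : Fin r => g))ᵀ = kron (fun _ : Fin r => gᵀ) := by ext I J; rfl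
  rw [← Matrix.transpose_inj, Matrix.transpose_mul, h, altMatrix_transpose, kron_mul_alt]
  ext I K
  simp only [Matrix.transpose_apply, Matrix.of_apply]
  rw [← Matrix.det_transpose, Matrix.transpose_submatrix, Matrix.transpose_transpose]

theorem kron_comm_alt (g : Matrix (Fin n) (Fin n) L) :
    kron (fun _ : Fin r => g) * altMatrix L r n = altMatrix L r n * kron (fun _ : Fin r => g) := by
  rw [kron_mul_alt, alt_mul_kron]

theorem map_altMatrix {L' : Type u} [Field L'] (σ : L →+* L') :
    (altMatrix L r n).map σ = altMatrix L' r n := by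
  ext I J
  simp only [altMatrix, Matrix.map_apply, Matrix.of_apply]
  rw [RingHom.map_det]
  congr 1
  ext a b
  by_cases h : I a = J b <;> simp [RingHom.mapMatrix_apply, Matrix.one_apply, h]

/-- the increasing enumeration of an `r`-element subset -/
def enum (s : {s : Finset (Fin n) // s.card = r}) : Fin r → Fin n := s.1.orderEmbOfFin s.2

theorem altMatrix_enum (s t : {s : Finset (Fin n) // s.card = r}) :
    altMatrix L r n (enum s) (enum t) = if s = t then 1 else 0 := by
  show ((1 : Matrix (Fin n) (Fin n) L).submatrix (enum s) (enum t)).det = _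
  split_ifs with h
  · subst h
    unfold enum
    rw [Matrix.submatrix_one (l := Fin r) (s.1.orderEmbOfFin s.2) (s.1.orderEmbOfFin s.2).injective, Matrix.det_one]
  · obtain ⟨a, ha⟩ : ∃ a, enum s a ∉ t.1 := by
      by_contra hc
      push Not at hc
      refine h (Subtype.ext (Finset.eq_of_subset_of_card_le (fun x hx => ?_) (by rw [s.2, t.2])))
      obtain ⟨a, rfl⟩ : x ∈ Set.range (s.1.orderEmbOfFin s.2) := by
        rw [Finset.range_orderEmbOfFin]; exact hx
      exact hc a
    refine Matrix.det_eq_zero_of_row_eq_zero a fun b => Matrix.one_apply_ne fun e => ha ?_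
    rw [e]
    exact Finset.orderEmbOfFin_mem _ _ _

theorem row_mem_span (I : Fin r → Fin n) :
    altMatrix L r n I ∈ Submodule.span L
      (Set.range fun s : {s : Finset (Fin n) // s.card = r} => altMatrix L r n (enum s)) := by
  by_cases hI : Function.Injective I
  · let s : {s : Finset (Fin n) // s.card = r} :=
      ⟨Finset.univ.image I, by rw [Finset.card_image_of_injective _ hI]; simp⟩
    let π : Fin r → Fin r := fun a => (s.1.orderIsoOfFin s.2).symm ⟨I a, by simp [s]⟩
    have hπ : Function.Bijective π := Finite.injective_iff_bijective.mp fun a b h => hI (by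
      simpa [π] using h)
    have hIπ : ∀ a, enum s (π a) = I a := fun a => by
      simp [enum, π, ← Finset.coe_orderIsoOfFin_apply]
    have h : altMatrix L r n I = ((Equiv.Perm.sign (Equiv.ofBijective π hπ) : ℤ) : L) • altMatrix L r n (enum s) := by
      funext J
      show ((1 : Matrix (Fin n) (Fin n) L).submatrix I J).det = _ * ((1 : Matrix (Fin n) (Fin n) L).submatrix (enum s) J).det
      rw [← Matrix.det_permute]
      congr 1
      ext a b
      exact congrArg (fun z => (1 : Matrix (Fin n) (Fin n) L) z (J b)) (hIπ a).symm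
    rw [h]
    exact Submodule.smul_mem _ _ (Submodule.subset_span ⟨s, rfl⟩)
  · obtain ⟨a, b, hab, hne⟩ := Function.not_injective_iff.mp hI
    have h : altMatrix L r n I = 0 := by
      funext J
      exact Matrix.det_zero_of_row_eq hne (by ext c; exact congrArg (fun z => (1 : Matrix (Fin n) (Fin n) L) z (J c)) hab)
    rw [h]
    exact zero_mem _

theorem finrank_range_vecMul :
    Module.finrank L (LinearMap.range (altMatrix L r n).vecMulLinear) = n.choose r := by
  have hspan : LinearMap.range (altMatrix L r n).vecMulLinear = Submodule.span L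
      (Set.range fun s : {s : Finset (Fin n) // s.card = r} => altMatrix L r n (enum s)) := by
    refine le_antisymm ?_ (Submodule.span_le.mpr ?_)
    · rw [range_vecMulLinear]
      exact Submodule.span_le.mpr (Set.range_subset_iff.mpr row_mem_span)
    · rintro _ ⟨s, rfl⟩
      exact ⟨Pi.single (enum s) 1, by simp [Matrix.single_one_vecMul]; rfl⟩
  have hli : LinearIndependent L fun s : {s : Finset (Fin n) // s.card = r} => altMatrix L r n (enum s) := by
    rw [Fintype.linearIndependent_iff]
    intro c hc t
    have := congrFun hc (enum t)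
    simpa [altMatrix_enum] using this
  rw [hspan, finrank_span_eq_card hli, Fintype.card_finset_len, Fintype.card_fin]

theorem finrank_range_mulRight :
    Module.finrank L (LinearMap.range (LinearMap.mulRight L (altMatrix L r n))) = n ^ r * n.choose r := by
  let E := altMatrix L r n
  let R := LinearMap.range E.vecMulLinear
  let f : LinearMap.range (LinearMap.mulRight L E) →ₗ[L] ((Fin r → Fin n) → R) :=
    { toFun := fun X I => ⟨(X : Matrix (Fin r → Fin n) (Fin r → Fin n) L) I, by
        obtain ⟨Y, hY⟩ := X.2
        exact ⟨Y I, by rw [← hY]; rfl⟩⟩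
      map_add' := fun _ _ => rfl
      map_smul' := fun _ _ => rfl }
  have hinj : Function.Injective f := fun X Y h =>
    Subtype.ext (funext fun I => congrArg Subtype.val (congrFun h I))
  have hsurj : Function.Surjective f := fun g => by
    choose v hv using fun I => (g I).2
    exact ⟨⟨Matrix.of v * E, ⟨Matrix.of v, rfl⟩⟩, funext fun I => Subtype.ext (hv I)⟩
  rw [(LinearEquiv.ofBijective f ⟨hinj, hsurj⟩).finrank_eq, Module.finrank_pi_fintype,
    Finset.sum_const, finrank_range_vecMul, smul_eq_mul]
  simp

end Groth.Agent.Brauer
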