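import Mathlib

/-!
# Dimensions of modules over matrix algebras over division algebras
-/

set_option autoImplicit false

universe u v w z

open TensorProduct Matrix

namespace Groth.Agent.Brauer

variable {k : Type u} [Field k]

/-- A representation of `Matrix m m D` has dimension divisible by `m * dim D`. -/
theorem dvd_finrank_of_rep {D : Type v} [DivisionRing D] [Algebra k D] (m : ℕ)
    {M : Type w} [AddCommGroup M] [Module k M]
    (ρ : Matrix (Fin m) (Fin m) D →ₐ[k] Module.End k M) :
    m * Module.finrank k D ∣ Module.finrank k M := by
  classical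
  rcases Nat.eq_zero_or_pos m with rfl | hm
  · have h1 : (1 : Module.End k M) = 0 := by
      rw [← map_one ρ, Subsingleton.elim (1 : Matrix (Fin 0) (Fin 0) D) 0, map_zero]
    have : Subsingleton M := ⟨fun x y => by
      rw [← Module.End.one_apply (R := k) x, h1, ← Module.End.one_apply (R := k) y, h1]; rfl⟩
    rw [Module.finrank_zero_of_subsingleton (R := k) (M := M)]
    exact dvd_zero _
  by_cases hfin : Module.Finite k M
  swap
  · rw [Module.finrank_of_not_finite hfin]
    exact dvd_zero _
  let z : Fin m := ⟨0, hm⟩
  let p : Module.End k M := ρ (Matrix.single z z 1)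
  let M0 := LinearMap.range p
  have hmul : ∀ (i j j' l : Fin m) (a b : D) (x : M),
      ρ (Matrix.single i j a) (ρ (Matrix.single j' l b) x) =
        ρ (Matrix.single i j a * Matrix.single j' l b) x := fun i j j' l a b x => by
    rw [map_mul]; rfl
  have hp : ∀ x : M0, p (x : M) = x := by
    rintro ⟨_, y, rfl⟩
    show p (p y) = p y
    simp only [p, hmul, Matrix.single_mul_single_same, one_mul]
  letI : Module D M0 :=
    { smul := fun d x => ⟨ρ (Matrix.single z z d) x, ⟨ρ (Matrix.single z z d) x, by
        simp only [p, hmul, Matrix.single_mul_single_same, one_mul]⟩⟩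
      one_smul := fun x => Subtype.ext (hp x)
      mul_smul := fun a b x => Subtype.ext (by
        show ρ (Matrix.single z z (a * b)) x = ρ (Matrix.single z z a) (ρ (Matrix.single z z b) x)
        rw [hmul, Matrix.single_mul_single_same])
      smul_zero := fun d => Subtype.ext (map_zero (ρ (Matrix.single z z d)))
      smul_add := fun d x y => Subtype.ext (map_add (ρ (Matrix.single z z d)) (x : M) (y : M))
      add_smul := fun a b x => Subtype.ext (by
        show ρ (Matrix.single z z (a + b)) x = ρ (Matrix.single z z a) x + ρ (Matrix.single z z b) x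
        rw [Matrix.single_add, map_add]; rfl)
      zero_smul := fun x => Subtype.ext (by
        show ρ (Matrix.single z z 0) x = 0
        rw [Matrix.single_zero, map_zero]; rfl) }
  have : IsScalarTower k D M0 := ⟨fun r d x => Subtype.ext (by
    show ρ (Matrix.single z z (r • d)) x = r • ρ (Matrix.single z z d) x
    rw [← Matrix.smul_single, map_smul]; rfl)⟩
  let e : M ≃ₗ[k] (Fin m → M0) :=
    { toFun := fun x i => ⟨ρ (Matrix.single z i 1) x, ⟨ρ (Matrix.single z i 1) x, by
        simp only [p, hmul, Matrix.single_mul_single_same, one_mul]⟩⟩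
      map_add' := fun x y => funext fun i => Subtype.ext (map_add (ρ (Matrix.single z i 1)) x y)
      map_smul' := fun r x => funext fun i => Subtype.ext (map_smul (ρ (Matrix.single z i 1)) r x)
      invFun := fun f => ∑ i, ρ (Matrix.single i z 1) (f i : M)
      left_inv := fun x => by
        simp only [hmul, Matrix.single_mul_single_same, one_mul]
        rw [← LinearMap.sum_apply, ← map_sum, Matrix.sum_single_one, map_one, Module.End.one_apply]
      right_inv := fun f => funext fun i => Subtype.ext (by
        show ρ (Matrix.single z i 1) (∑ j, ρ (Matrix.single j z 1) (f j : M)) = f i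
        rw [map_sum, Finset.sum_eq_single i]
        · simp only [hmul, Matrix.single_mul_single_same, one_mul]
          exact hp (f i)
        · intro j _ hj
          rw [hmul, Matrix.single_mul_single_of_ne _ _ _ _ (Ne.symm hj), map_zero]
          rfl
        · simp) }
  rw [e.finrank_eq, Module.finrank_pi_fintype, Finset.sum_const, Finset.card_univ, Fintype.card_fin,
    smul_eq_mul, ← Module.finrank_mul_finrank k D M0]
  exact mul_dvd_mul_left m (dvd_mul_right _ _)

/-- Transport of `dvd_finrank_of_rep` along an isomorphism. -/
theorem dvd_finrank_of_algEquiv {A : Type z} [Ring A] [Algebra k A] {D : Type v} [DivisionRing D]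
    [Algebra k D] {m : ℕ} (f : A ≃ₐ[k] Matrix (Fin m) (Fin m) D)
    {M : Type w} [AddCommGroup M] [Module k M] (ρ : A →ₐ[k] Module.End k M) :
    m * Module.finrank k D ∣ Module.finrank k M :=
  dvd_finrank_of_rep m (ρ.comp f.symm.toAlgHom)

/-- The column representation. -/
def colRep (D : Type v) [Ring D] [Algebra k D] (m : ℕ) :
    Matrix (Fin m) (Fin m) D →ₐ[k] Module.End k (Fin m → D) where
  toFun A :=
    { toFun := fun x => A *ᵥ x
      map_add' := fun x y => Matrix.mulVec_add A x y
      map_smul' := fun r x => Matrix.mulVec_smul A r x }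
  map_one' := LinearMap.ext fun x => Matrix.one_mulVec x
  map_mul' A B := LinearMap.ext fun x => (Matrix.mulVec_mulVec x A B).symm
  map_zero' := LinearMap.ext fun x => Matrix.zero_mulVec x
  map_add' A B := LinearMap.ext fun x => Matrix.add_mulVec A B x
  commutes' r := LinearMap.ext fun x => by
    show (algebraMap k (Matrix (Fin m) (Fin m) D) r) *ᵥ x = r • x
    rw [Algebra.algebraMap_eq_smul_one, Matrix.smul_mulVec, Matrix.one_mulVec]

theorem finrank_col (D : Type v) [Ring D] [Algebra k D] [Module.Finite k D] (m : ℕ) :
    Module.finrank k (Fin m → D) = m * Module.finrank k D := by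
  rw [Module.finrank_pi_fintype, Finset.sum_const, Finset.card_univ, Fintype.card_fin, smul_eq_mul]

/-- A simple algebra with a module `M` such that `dim A = (dim M)^2` is a matrix algebra. -/
theorem split_of_rep {A : Type z} [Ring A] [Algebra k A] [IsSimpleRing A] [FiniteDimensional k A]
    {M : Type w} [AddCommGroup M] [Module k M] [FiniteDimensional k M] [Nontrivial M]
    (ρ : A →ₐ[k] Module.End k M) (h : Module.finrank k A = Module.finrank k M ^ 2) :
    Nonempty (A ≃ₐ[k] Matrix (Fin (Module.finrank k M)) (Fin (Module.finrank k M)) k) := by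
  have hinj : Function.Injective ρ := RingHom.injective ρ.toRingHom
  have hbij : Function.Bijective ρ := ⟨hinj, (LinearMap.injective_iff_surjective_of_finrank_eq_finrank
    (f := ρ.toLinearMap) (by rw [h, Module.finrank_linearMap, sq])).mp hinj⟩
  exact ⟨(AlgEquiv.ofBijective ρ hbij).trans (algEquivMatrix (Module.finBasis k M))⟩

end Groth.Agent.Brauer
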