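import Groth.Agent.Brauer.Period
import Mathlib.Algebra.Field.Shrink
import Mathlib.Algebra.Algebra.Shrink

/-! Brauer equivalence and the primary decomposition. -/

set_option autoImplicit false

universe u v w w' v'

open scoped TensorProduct
open MulOpposite

namespace Groth.Agent.Brauer

open Groth.Agent.Azumaya

variable {k : Type u} [Field k]
variable {A : Type v} [Ring A] [Algebra k A] {B : Type w} [Ring B] [Algebra k B]
variable {C : Type w'} [Ring C] [Algebra k C] {E : Type v'} [Ring E] [Algebra k E]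

/-- `A` and `B` have the same class. -/
def Sim (k : Type u) [Field k] (A : Type v) [Ring A] [Algebra k A] (B : Type w) [Ring B] [Algebra k B] :
    Prop :=
  IndDvd k (A ⊗[k] Bᵐᵒᵖ) 1

/-- The opposite of a tensor product. -/
noncomputable def opTensor : Aᵐᵒᵖ ⊗[k] Bᵐᵒᵖ ≃ₐ[k] (A ⊗[k] B)ᵐᵒᵖ :=
  AlgEquiv.ofBijective (Algebra.TensorProduct.lift
    (AlgHom.op (Algebra.TensorProduct.includeLeft (R := k) (S := k) (A := A) (B := B)))
    (AlgHom.op (Algebra.TensorProduct.includeRight (R := k) (A := A) (B := B)))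
    fun x y => by
      show op (x.unop ⊗ₜ[k] (1 : B)) * op ((1 : A) ⊗ₜ[k] y.unop) =
        op ((1 : A) ⊗ₜ[k] y.unop) * op (x.unop ⊗ₜ[k] (1 : B))
      rw [← op_mul, ← op_mul, Algebra.TensorProduct.tmul_mul_tmul, Algebra.TensorProduct.tmul_mul_tmul,
        one_mul, mul_one, one_mul, mul_one]) (by
    let L : Aᵐᵒᵖ ⊗[k] Bᵐᵒᵖ ≃ₗ[k] (A ⊗[k] B)ᵐᵒᵖ :=
      (TensorProduct.congr (opLinearEquiv k).symm (opLinearEquiv k).symm).trans (opLinearEquiv k)
    convert L.bijective using 1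
    funext z
    induction z using TensorProduct.induction_on with
    | zero => simp
    | tmul x y =>
      rw [Algebra.TensorProduct.lift_tmul]
      show op (x.unop ⊗ₜ[k] (1 : B)) * op ((1 : A) ⊗ₜ[k] y.unop) = op (x.unop ⊗ₜ[k] y.unop)
      rw [← op_mul, Algebra.TensorProduct.tmul_mul_tmul, one_mul, mul_one]
    | add x y hx hy => rw [map_add, map_add, hx, hy])

theorem IndDvd.op {n : ℕ} (h : IndDvd k A n) : IndDvd k Aᵐᵒᵖ n := by
  obtain ⟨N, f, h0, hN⟩ := h
  exact ⟨N, (Matrix.transposeAlgEquiv (Fin N) k k).symm.toAlgHom.comp (AlgHom.op f), h0, by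
    rwa [← (opLinearEquiv k).finrank_eq]⟩

theorem sim_refl (hA : IsCSA k A) : Sim k A A := by
  haveI := hA.central; haveI := hA.simple; haveI := hA.finite
  exact ⟨Module.finrank k A, (algEquivMatrix (Module.finBasis k A)).toAlgHom.comp (AlgHom.mulLeftRight k A),
    hA.finrank_pos, by
      rw [Module.finrank_tensorProduct, ← (opLinearEquiv k (M := A)).finrank_eq, mul_one, mul_one]⟩

theorem Sim.congr {B' : Type v'} [Ring B'] [Algebra k B'] (h : Sim k A B) (e : B ≃ₐ[k] B') :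
    Sim k A B' :=
  IndDvd.of_algEquiv h (Algebra.TensorProduct.congr AlgEquiv.refl (AlgEquiv.op e))

theorem Sim.congr_left {A' : Type v'} [Ring A'] [Algebra k A'] (h : Sim k A B) (e : A ≃ₐ[k] A') :
    Sim k A' B :=
  IndDvd.of_algEquiv h (Algebra.TensorProduct.congr e AlgEquiv.refl)

theorem sim_of_algEquiv (hA : IsCSA k A) (e : A ≃ₐ[k] B) : Sim k A B :=
  (sim_refl hA).congr e

theorem Sim.symm (h : Sim k A B) : Sim k B A :=
  (IndDvd.op h).of_algEquiv ((opTensor (k := k) (A := A) (B := Bᵐᵒᵖ)).symm.trans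
    ((Algebra.TensorProduct.congr AlgEquiv.refl (AlgEquiv.opOp k B).symm).trans
      (Algebra.TensorProduct.comm k Aᵐᵒᵖ B)))

theorem Sim.trans (hB : IsCSA k B) (h : Sim k A B) (h' : Sim k B C) : Sim k A C := by
  have hBB : IndDvd k (B ⊗[k] Bᵐᵒᵖ) 1 := sim_refl hB
  unfold Sim
  rw [← indDvd_tensor_split (T := A ⊗[k] Cᵐᵒᵖ) (hB.tensor hB.op) hBB]
  exact (h.tensor h').of_algEquiv
    ((((Algebra.TensorProduct.congr AlgEquiv.refl (Algebra.TensorProduct.comm k B Cᵐᵒᵖ)).trans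
      (Algebra.TensorProduct.tensorTensorTensorComm k k k k A Bᵐᵒᵖ Cᵐᵒᵖ B))).trans
      (Algebra.TensorProduct.congr AlgEquiv.refl (Algebra.TensorProduct.comm k Bᵐᵒᵖ B)))

theorem Sim.tensor (h : Sim k A B) (h' : Sim k C E) : Sim k (A ⊗[k] C) (B ⊗[k] E) :=
  (IndDvd.tensor h h').of_algEquiv
    ((Algebra.TensorProduct.tensorTensorTensorComm k k k k A Bᵐᵒᵖ C Eᵐᵒᵖ).trans
      (Algebra.TensorProduct.congr AlgEquiv.refl opTensor))

/-- A split factor does not change the class. -/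
theorem sim_tensor_split (hA : IsCSA k A) (hB : IsCSA k B) (h : IndDvd k B 1) : Sim k (A ⊗[k] B) A := by
  exact (by simpa using IndDvd.tensor (sim_refl hA) h : IndDvd k ((A ⊗[k] Aᵐᵒᵖ) ⊗[k] B) 1).of_algEquiv
    (((Algebra.TensorProduct.assoc k k k A Aᵐᵒᵖ B).trans
      (Algebra.TensorProduct.congr AlgEquiv.refl (Algebra.TensorProduct.comm k Aᵐᵒᵖ B))).trans
      (Algebra.TensorProduct.assoc k k k A B Aᵐᵒᵖ).symm)

theorem sim_split_tensor (hA : IsCSA k A) (hB : IsCSA k B) (h : IndDvd k B 1) : Sim k (B ⊗[k] A) A :=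
  (sim_tensor_split hA hB h).congr_left (Algebra.TensorProduct.comm k A B)

theorem sim_matrix (hA : IsCSA k A) (m : ℕ) [NeZero m] : Sim k (Matrix (Fin m) (Fin m) A) A :=
  (sim_tensor_split hA (B := Matrix (Fin m) (Fin m) k) ⟨inferInstance, inferInstance, inferInstance⟩
    (indDvd_matrix m (Nat.pos_of_ne_zero (NeZero.ne m)))).congr_left (matrixEquivTensor (Fin m) k A).symm

theorem Sim.indDvd_iff (hA : IsCSA k A) (hB : IsCSA k B) (h : Sim k A B) {n : ℕ} :
    IndDvd k A n ↔ IndDvd k B n := by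
  have hBB : IndDvd k (Bᵐᵒᵖ ⊗[k] B) 1 := IndDvd.of_algEquiv (sim_refl hB) (Algebra.TensorProduct.comm k B Bᵐᵒᵖ)
  rw [← indDvd_tensor_split (T := A) (hB.op.tensor hB) hBB,
    ← indDvd_tensor_split (T := B) (hA.tensor hB.op) h]
  exact indDvd_congr ((Algebra.TensorProduct.assoc k k k A Bᵐᵒᵖ B).symm.trans
    (Algebra.TensorProduct.comm k (A ⊗[k] Bᵐᵒᵖ) B))

/-- The opposite of a tensor power. -/
theorem pwOp (A : Type v) [Ring A] [Algebra k A] :
    ∀ r : ℕ, Nonempty (pw k Aᵐᵒᵖ r ≃ₐ[k] (pw k A r)ᵐᵒᵖ)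
  | 0 => ⟨(pwZero k Aᵐᵒᵖ).trans ((AlgEquiv.toOpposite k k).trans (AlgEquiv.op (pwZero k A).symm))⟩
  | r + 1 => by
    obtain ⟨f⟩ := pwOp A r
    exact ⟨((pwSucc k Aᵐᵒᵖ r).trans (Algebra.TensorProduct.congr f AlgEquiv.refl)).trans
      (opTensor.trans (AlgEquiv.op (pwSucc k A r).symm))⟩

theorem Sim.pw (h : Sim k A B) (r : ℕ) : Sim k (Brauer.pw k A r) (Brauer.pw k B r) := by
  obtain ⟨f⟩ := pwTensor k A Bᵐᵒᵖ r
  obtain ⟨g⟩ := pwOp (k := k) B r
  have h1 : IndDvd k (Brauer.pw k (A ⊗[k] Bᵐᵒᵖ) r) 1 := by simpa using IndDvd.pow h r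
  exact h1.of_algEquiv (f.trans (Algebra.TensorProduct.congr AlgEquiv.refl g))

theorem sim_pw_add (hA : IsCSA k A) {a b : ℕ} (ha : IndDvd k (Brauer.pw k A a) 1) :
    Sim k (Brauer.pw k A (b + a)) (Brauer.pw k A b) :=
  (sim_tensor_split (hA.pw b) (hA.pw a) ha).congr_left (pwAdd k A b a).symm

/-- The powers depend on the exponent modulo a splitting one. -/
theorem sim_pw_modEq (hA : IsCSA k A) {a b b' : ℕ} (ha : IndDvd k (Brauer.pw k A a) 1)
    (h : b ≡ b' [MOD a]) : Sim k (Brauer.pw k A b) (Brauer.pw k A b') := by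
  have key : ∀ c, Sim k (Brauer.pw k A c) (Brauer.pw k A (c % a)) := fun c => by
    have := sim_pw_add hA (b := c % a) (indDvd_pw_split_mul ha (c / a))
    rwa [Nat.mod_add_div] at this
  have h2 := (key b').symm
  rw [← (show b % a = b' % a from h)] at h2
  exact (key b).trans (hA.pw _) h2

/-- Equivalent algebras of the same dimension, one of them a division algebra, are isomorphic. -/
theorem algEquiv_of_sim {D : Type v} [DivisionRing D] [Algebra k D] [FiniteDimensional k D]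
    {X : Type w} [Ring X] [Algebra k X] (hX : IsCSA k X)
    (hdim : Module.finrank k X = Module.finrank k D) (h : Sim k D X) : Nonempty (X ≃ₐ[k] D) := by
  obtain ⟨N, f, h0, hN⟩ := h
  rw [Module.finrank_tensorProduct, ← (opLinearEquiv k (M := X)).finrank_eq, hdim, mul_one, mul_one] at hN
  have hN' : N = Module.finrank k D := Nat.mul_self_inj.1 hN
  let ρ : D →ₐ[k] Module.End k (Fin N → k) :=
    (Matrix.toLinAlgEquiv'.toAlgHom.comp f).comp Algebra.TensorProduct.includeLeft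
  let τ : Xᵐᵒᵖ →ₐ[k] Module.End k (Fin N → k) :=
    (Matrix.toLinAlgEquiv'.toAlgHom.comp f).comp Algebra.TensorProduct.includeRight
  have hcomm : ∀ y x, ρ y * τ x = τ x * ρ y := fun y x => by
    simp only [ρ, τ, AlgHom.comp_apply, ← map_mul, Algebra.TensorProduct.includeLeft_apply,
      Algebra.TensorProduct.includeRight_apply, Algebra.TensorProduct.tmul_mul_tmul, mul_one, one_mul]
  let v : Fin N → k := Pi.single ⟨0, h0⟩ 1
  have hv : v ≠ 0 := fun hv => by simpa [v] using congrFun hv ⟨0, h0⟩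
  let Φ : D →ₗ[k] (Fin N → k) := ρ.toLinearMap.flip v
  have hΦi : Function.Injective Φ := by
    rw [← LinearMap.ker_eq_bot, LinearMap.ker_eq_bot']
    intro y hy
    by_contra hy0
    refine hv ?_
    have h1 : ρ y⁻¹ (ρ y v) = v := by
      rw [← Module.End.mul_apply, ← map_mul, inv_mul_cancel₀ hy0, map_one, Module.End.one_apply]
    rw [← h1, show ρ y v = 0 from hy, map_zero]
  have hΦ : Function.Bijective Φ := ⟨hΦi, (LinearMap.injective_iff_surjective_of_finrank_eq_finrank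
    (by rw [Module.finrank_fin_fun, hN'])).1 hΦi⟩
  let Ψ := LinearEquiv.ofBijective Φ hΦ
  let ψ : X →ₗ[k] D := Ψ.symm.toLinearMap.comp
    ((τ.toLinearMap.flip v).comp (opLinearEquiv k).toLinearMap)
  have hψ : ∀ x, ρ (ψ x) v = τ (op x) v := fun x => Ψ.apply_symm_apply _
  have hmul : ∀ x x', ψ (x * x') = ψ x * ψ x' := fun x x' => hΦi <| by
    show ρ _ v = ρ _ v
    rw [hψ, op_mul, map_mul, map_mul, Module.End.mul_apply, Module.End.mul_apply, ← hψ x, hψ x',
      ← Module.End.mul_apply, ← hcomm, Module.End.mul_apply]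
  have h1 : ψ 1 = 1 := hΦi <| by
    show ρ _ v = ρ _ v
    rw [hψ, op_one, map_one, map_one]
  let φ : X →ₐ[k] D := AlgHom.ofLinearMap ψ h1 hmul
  haveI := hX.finite; haveI := hX.simple
  have hinj : Function.Injective φ := RingHom.injective φ.toRingHom
  exact ⟨AlgEquiv.ofBijective φ
    ⟨hinj, (LinearMap.injective_iff_surjective_of_finrank_eq_finrank hdim (f := φ.toLinearMap)).1 hinj⟩⟩

/-- The division algebra of a central simple algebra, in a given universe. -/
theorem exists_small_division {D : Type v} [DivisionRing D] [Algebra k D] {X : Type w} [Ring X]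
    [Algebra k X] (hX : IsCSA k X) :
    ∃ (d : ℕ) (D' : Type v) (_ : DivisionRing D') (_ : Algebra k D'),
      0 < d ∧ IsCSA k D' ∧ Module.finrank k D' = d ^ 2 ∧ Sim k D' X ∧
        ∀ n, IndDvd k X n ↔ 0 < n ∧ d ∣ n := by
  obtain ⟨d, hd0, hiff, m, F, _, _, hm, hF, hdim, ⟨e⟩⟩ := exists_index hX
  haveI : NeZero m := ⟨hm.ne'⟩
  haveI : Small.{v} k := small_of_injective (algebraMap k D).injective
  haveI := hF.finite
  haveI : Small.{v} F := small_of_injective (Module.finBasis k F).equivFun.injective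
  let e' : Shrink.{v} F ≃ₐ[k] F := Shrink.algEquiv k F
  have hF' : IsCSA k (Shrink.{v} F) := hF.of_algEquiv e'.symm
  exact ⟨d, Shrink.{v} F, inferInstance, inferInstance, hd0, hF', by rw [e'.toLinearEquiv.finrank_eq, hdim],
    (sim_of_algEquiv hF' e').trans hF ((sim_matrix hF m).symm.congr e.symm), hiff⟩

section Pi

/-- Splitting off one factor. -/
noncomputable def piSplit {ι : Type} [DecidableEq ι] (E : ι → Type v) [∀ i, Ring (E i)]
    [∀ i, Algebra k (E i)] (i₀ : ι) :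
    (⨂[k] i, E i) ≃ₐ[k] E i₀ ⊗[k] (⨂[k] i : {i // ¬ i = i₀}, E i.1) :=
  ((reindexAlg (A := E) (Equiv.sumCompl (· = i₀)).symm).trans
    (sumAlg fun x : {i // i = i₀} ⊕ {i // ¬ i = i₀} => E ((Equiv.sumCompl (· = i₀)) x))).trans
    (Algebra.TensorProduct.congr (singleAlg (A := fun i : {i // i = i₀} => E i.1) ⟨i₀, rfl⟩) AlgEquiv.refl)

theorem sum_split {ι : Type} [Fintype ι] [DecidableEq ι] {M : Type w} [CommMonoid M] (f : ι → M) (i₀ : ι) :
    ∏ i, f i = f i₀ * ∏ i : {i // ¬ i = i₀}, f i.1 := by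
  rw [← Finset.mul_prod_erase _ f (Finset.mem_univ i₀),
    ← Finset.prod_subtype (Finset.univ.erase i₀) (by simp) f]

theorem card_split {ι : Type} [Fintype ι] [DecidableEq ι] {c : ℕ} (hc : Fintype.card ι = c + 1) (i₀ : ι) :
    Fintype.card {i // ¬ i = i₀} = c := by
  rw [Fintype.card_subtype_compl, Fintype.card_subtype_eq, hc, Nat.add_sub_cancel]

theorem pi_csa (c : ℕ) : ∀ (ι : Type) [Fintype ι], Fintype.card ι = c → ∀ (E : ι → Type v)
    [∀ i, Ring (E i)] [∀ i, Algebra k (E i)], (∀ i, IsCSA k (E i)) →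
      IsCSA k (⨂[k] i, E i) ∧ Module.finrank k (⨂[k] i, E i) = ∏ i, Module.finrank k (E i) := by
  induction c with
  | zero =>
    intro ι _ hc E _ _ _
    haveI := Fintype.card_eq_zero_iff.1 hc
    exact ⟨IsCSA.self.of_algEquiv emptyAlg.symm,
      by rw [(emptyAlg (R := k) (A := E)).toLinearEquiv.finrank_eq, Module.finrank_self, Fintype.prod_empty]⟩
  | succ c ih =>
    intro ι _ hc E _ _ hE
    classical
    obtain ⟨i₀⟩ : Nonempty ι := Fintype.card_pos_iff.1 (by omega)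
    obtain ⟨h1, h2⟩ := ih _ (card_split hc i₀) (fun i : {i // ¬ i = i₀} => E i.1) fun i => hE i.1
    exact ⟨((hE i₀).tensor h1).of_algEquiv (piSplit E i₀).symm,
      by rw [(piSplit E i₀).toLinearEquiv.finrank_eq, Module.finrank_tensorProduct, h2,
        sum_split (fun i => Module.finrank k (E i)) i₀]⟩

theorem pi_pw_split (c : ℕ) : ∀ (ι : Type) [Fintype ι], Fintype.card ι = c → ∀ (E : ι → Type v)
    [∀ i, Ring (E i)] [∀ i, Algebra k (E i)], (∀ i, IsCSA k (E i)) → ∀ N,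
      (∀ i, IndDvd k (pw k (E i) N) 1) → IndDvd k (pw k (⨂[k] i, E i) N) 1 := by
  induction c with
  | zero =>
    intro ι _ hc E _ _ _ N _
    haveI := Fintype.card_eq_zero_iff.1 hc
    simpa using (indDvd_self.of_algEquiv (emptyAlg (R := k) (A := E)).symm).pow N
  | succ c ih =>
    intro ι _ hc E _ _ hE N hN
    classical
    obtain ⟨i₀⟩ : Nonempty ι := Fintype.card_pos_iff.1 (by omega)
    have h := ih _ (card_split hc i₀) (fun i : {i // ¬ i = i₀} => E i.1) (fun i => hE i.1) N fun i => hN i.1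
    obtain ⟨f⟩ := pwTensor k (E i₀) (⨂[k] i : {i // ¬ i = i₀}, E i.1) N
    exact (indDvd_congr ((congrAlg (A := fun _ : Fin N => ⨂[k] i, E i) fun _ => piSplit E i₀).trans f)).2
      (by simpa using (hN i₀).tensor h)

/-- The factor at `i₀` recovered from the product. -/
theorem pi_pw_sim {ι : Type} [Fintype ι] [DecidableEq ι] (E : ι → Type v) [∀ i, Ring (E i)]
    [∀ i, Algebra k (E i)] (hE : ∀ i, IsCSA k (E i)) (i₀ : ι) (N : ℕ)
    (hne : ∀ i, i ≠ i₀ → IndDvd k (pw k (E i) N) 1) (h0 : Sim k (pw k (E i₀) N) (E i₀)) :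
    Sim k (pw k (⨂[k] i, E i) N) (E i₀) := by
  obtain ⟨f⟩ := pwTensor k (E i₀) (⨂[k] i : {i // ¬ i = i₀}, E i.1) N
  obtain ⟨hR, -⟩ := pi_csa (k := k) _ {i // ¬ i = i₀} rfl (fun i => E i.1) fun i => hE i.1
  exact (((sim_tensor_split ((hE i₀).pw N) (hR.pw N) (pi_pw_split _ _ rfl _ (fun i => hE i.1) N
    fun i => hne i.1 i.2)).trans ((hE i₀).pw N) h0)).congr_left
    ((congrAlg (A := fun _ : Fin N => ⨂[k] i, E i) fun _ => piSplit E i₀).trans f).symm

theorem pi_sim_pw {D : Type w} [Ring D] [Algebra k D] (hD : IsCSA k D) (c : ℕ) :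
    ∀ (ι : Type) [Fintype ι], Fintype.card ι = c → ∀ (E : ι → Type v)
    [∀ i, Ring (E i)] [∀ i, Algebra k (E i)], (∀ i, IsCSA k (E i)) → ∀ N : ι → ℕ,
      (∀ i, Sim k (E i) (pw k D (N i))) → Sim k (⨂[k] i, E i) (pw k D (∑ i, N i)) := by
  induction c with
  | zero =>
    intro ι _ hc E _ _ _ N _
    haveI := Fintype.card_eq_zero_iff.1 hc
    rw [Fintype.sum_empty]
    exact ((sim_refl IsCSA.self).congr_left (emptyAlg (R := k) (A := E)).symm).congr (pwZero k D).symm
  | succ c ih =>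
    intro ι _ hc E _ _ hE N hN
    classical
    obtain ⟨i₀⟩ : Nonempty ι := Fintype.card_pos_iff.1 (by omega)
    have h := ih _ (card_split hc i₀) (fun i : {i // ¬ i = i₀} => E i.1) (fun i => hE i.1)
      (fun i => N i.1) fun i => hN i.1
    rw [show ∑ i, N i = N i₀ + ∑ i : {i // ¬ i = i₀}, N i.1 from
      sum_split (M := Multiplicative ℕ) (fun i => Multiplicative.ofAdd (N i)) i₀]
    exact (((hN i₀).tensor h).congr_left (piSplit E i₀).symm).congr (pwAdd k D _ _).symm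

end Pi

section Arith

theorem dvd_of_primary {d M : ℕ} (hd : 0 < d) (h : ∀ p : d.primeFactors, p.1 ^ d.factorization p.1 ∣ M) :
    d ∣ M := by
  rw [Nat.dvd_iff_prime_pow_dvd_dvd]
  intro r a hr hra
  rcases Nat.eq_zero_or_pos a with rfl | ha
  · simp
  exact (pow_dvd_pow r ((hr.pow_dvd_iff_le_factorization hd.ne').1 hra)).trans
    (h ⟨r, Nat.mem_primeFactors.2 ⟨hr, (dvd_pow_self r ha.ne').trans hra, hd.ne'⟩⟩)

theorem modEq_of_primary {d a b : ℕ} (hd : 0 < d)
    (h : ∀ p : d.primeFactors, a ≡ b [MOD p.1 ^ d.factorization p.1]) : a ≡ b [MOD d] := by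
  rw [Nat.modEq_iff_dvd, Int.natCast_dvd]
  exact dvd_of_primary hd fun p => Int.natCast_dvd.1 (Nat.modEq_iff_dvd.1 (h p))

theorem exists_crt (d : ℕ) (p : d.primeFactors) :
    ∃ N, ∀ q : d.primeFactors, N ≡ (if q = p then 1 else 0) [MOD q.1 ^ d.factorization q.1] := by
  classical
  obtain ⟨N, hN⟩ := Nat.chineseRemainderOfFinset (fun q : d.primeFactors => if q = p then 1 else 0)
    (fun q : d.primeFactors => q.1 ^ d.factorization q.1) Finset.univ
    (fun q _ => pow_ne_zero _ (Nat.prime_of_mem_primeFactors q.2).ne_zero)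
    (fun q _ r _ hqr => Nat.coprime_pow_primes _ _ (Nat.prime_of_mem_primeFactors q.2)
      (Nat.prime_of_mem_primeFactors r.2) fun h => hqr (Subtype.ext h))
  exact ⟨N, fun q => hN q (Finset.mem_univ q)⟩

theorem prod_primary {d : ℕ} (hd : 0 < d) : ∏ p : d.primeFactors, p.1 ^ d.factorization p.1 = d := by
  rw [Finset.prod_coe_sort d.primeFactors (fun p => p ^ d.factorization p)]
  conv_rhs => rw [← Nat.factorization_prod_pow_eq_self hd.ne']
  rfl

end Arith

end Groth.Agent.Brauer
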